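import Cfsg.Agent.Lib.Helper4.Co3.Word
import Cfsg.Agent.Lib.Helper4.McL.Iso

set_option autoImplicit false

/-!
# The Conway group `Co₃` of the definitions is the group `P3` on 552 points
-/

namespace Cfsg.Agent.Lib.Helper4.Co3

open Cfsg
open Cfsg.Agent.Lib.Helper10.SX
open Cfsg.Agent.Lib.Helper4.McL (chain_card_le)
open MulAction

noncomputable section

theorem normV3 : sqNorm ((Spor.leechV : ↥leechLattice) : GolayPt → ℤ) = 48 := by
  show sqNorm Spor.vecV = 48
  decide +kernel

/-- the group of the definitions as a stabiliser inside `Co0` -/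
def co3EquivStab : ↥Spor.Co3 ≃ ↥(stabilizer ↥Co0 Spor.leechV) where
  toFun g := ⟨⟨g.1, ((mem_Co3_iff g.1).mp g.2).1⟩, ((mem_Co3_iff g.1).mp g.2).2⟩
  invFun g := ⟨g.1.1, (mem_Co3_iff g.1.1).mpr ⟨g.1.2, g.2⟩⟩
  left_inv g := rfl
  right_inv g := rfl

theorem card_Co3 : Nat.card ↥Spor.Co3 = NCo3 := by
  rw [Nat.card_congr co3EquivStab]
  have := Cfsg.Agent.S0405.card_stab48 Spor.leechV normV3
  show Nat.card _ = 495766656000
  omega

instance finite_Co3 : Finite ↥Spor.Co3 :=
  Nat.finite_of_card_ne_zero (by rw [card_Co3]; norm_num)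

theorem P3_le_range : P3 ≤ psi3.range := by
  apply grp_le_iff.mpr
  intro c hc
  simp only [List.mem_cons, List.not_mem_nil, or_false] at hc
  rcases hc with rfl | rfl | rfl
  · exact ⟨m3A, psi3_mA⟩
  · exact ⟨m3B, psi3_mB⟩
  · exact ⟨m3C, psi3_mC⟩

theorem card_range_le : Nat.card ↥psi3.range ≤ NCo3 := by
  rw [← card_Co3]
  exact Nat.le_of_dvd Nat.card_pos (Subgroup.card_range_dvd psi3)

theorem chain_le : NCo3 * Nat.card ↥Sbase ≤ Nat.card ↥P3 := by
  have h := chain_card_le Sbase (lvls.map toLvl) (chainB_sound lvls chain_ok) Sbase_fix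
  rwa [chain_prod] at h

theorem card_P3_le : Nat.card ↥P3 ≤ NCo3 :=
  le_trans (Subgroup.card_le_of_le P3_le_range) card_range_le

theorem card_P3 : Nat.card ↥P3 = NCo3 := by
  apply le_antisymm card_P3_le
  have h := chain_le
  have h1 : 1 ≤ Nat.card ↥Sbase := Nat.card_pos
  calc NCo3 = NCo3 * 1 := (mul_one _).symm
    _ ≤ NCo3 * Nat.card ↥Sbase := Nat.mul_le_mul_left _ h1
    _ ≤ Nat.card ↥P3 := h

theorem Sbase_eq_bot : Sbase = ⊥ := by
  apply Subgroup.eq_bot_of_card_le
  have h := chain_le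
  rw [card_P3] at h
  have : NCo3 * Nat.card ↥Sbase ≤ NCo3 * 1 := by rwa [mul_one]
  exact Nat.le_of_mul_le_mul_left this (by norm_num)

theorem range_eq : psi3.range = P3 := by
  symm
  apply Subgroup.eq_of_le_of_card_ge P3_le_range
  rw [card_P3]
  exact card_range_le

theorem psi3_injective : Function.Injective psi3 := by
  rw [← MonoidHom.ker_eq_bot_iff]
  apply Subgroup.eq_bot_of_card_le
  have h1 := Subgroup.card_mul_index psi3.ker
  rw [Subgroup.index_ker, range_eq, card_P3, card_Co3] at h1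
  have : Nat.card ↥psi3.ker * NCo3 = 1 * NCo3 := by rw [h1, one_mul]
  exact le_of_eq (Nat.eq_of_mul_eq_mul_right (by norm_num) this)

/-- the Conway group `Co₃` of the definitions is isomorphic to the group `P3` on 552 points -/
def co3Iso : ↥Spor.Co3 ≃* ↥P3 :=
  (MonoidHom.ofInjective psi3_injective).trans (MulEquiv.subgroupCongr range_eq)

theorem co3Iso_apply (g : ↥Spor.Co3) : ((co3Iso g : ↥P3) : Equiv.Perm (Fin 552)) = psi3 g := rfl

instance finite_P3 : Finite ↥P3 := Nat.finite_of_card_ne_zero (by rw [card_P3]; norm_num)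

/-- an element of `P3` fixing the six base points is the identity -/
theorem rigid (g : ↥P3) (h : ∀ b < 6, g • fpt b = fpt b) : g = 1 := by
  have : g ∈ Sbase := h
  rw [Sbase_eq_bot] at this
  exact Subgroup.mem_bot.mp this

end

end Cfsg.Agent.Lib.Helper4.Co3
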