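import Cfsg.Agent.Lib.Helper4.Co3.Points
import Cfsg.Agent.Lib.Helper4.McL.Action

set_option autoImplicit false

/-!
# The homomorphism from the Conway group `Co₃` of the definitions to the permutations of 552 points
-/

namespace Cfsg.Agent.Lib.Helper4.Co3

open Cfsg
open Cfsg.Agent.Lib.Helper3.Golay
open Cfsg.Agent.Lib.Helper14.LeechXi
open Cfsg.Agent.Lib.Helper14.LeechMono
open Cfsg.Agent.Lib.Helper10.SX
open Cfsg.Agent.Lib.Helper4.McL (vecOf gAL gBL gA_apply gB_apply)

theorem smul_def3 (g : ↥Spor.Co3) (x : ↥leechLattice) : g • x = (g : Equiv.Perm ↥leechLattice) x := rfl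

/-- the 552 vectors as a set with an action of the group -/
def XS3 : SubMulAction ↥Spor.Co3 ↥leechLattice where
  carrier := X3
  smul_mem' := by
    rintro g x ⟨h1, h2⟩
    obtain ⟨hco, hV⟩ := (mem_Co3_iff g.1).mp g.2
    rw [smul_def3]
    refine ⟨?_, ?_⟩
    · rw [hco.2, h1]
    · have := dot_pres g.1 hco Spor.leechV x
      rw [hV] at this
      exact this.trans h2

theorem XS3_smul_val (g : ↥Spor.Co3) (x : ↥XS3) :
    ((g • x : ↥XS3) : ↥leechLattice) = (g : Equiv.Perm ↥leechLattice) x.1 := rfl

/-- the enumeration of the points of `XS3` -/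
noncomputable def eXS3 : Fin 552 ≃ ↥XS3 := e552

theorem eXS3_val (i : Fin 552) : (((eXS3 i : ↥XS3) : ↥leechLattice) : GolayPt → ℤ) = vecOf (P552 i.val) := rfl

/-- the action on the 552 points -/
noncomputable def psi3 : ↥Spor.Co3 →* Equiv.Perm (Fin 552) :=
  (eXS3.symm.permCongrHom.toMonoidHom).comp (MulAction.toPermHom ↥Spor.Co3 ↥XS3)

theorem psi3_apply (g : ↥Spor.Co3) (i : Fin 552) : eXS3 (psi3 g i) = g • eXS3 i := by
  show eXS3 (eXS3.symm (g • eXS3.symm.symm i)) = g • eXS3 i
  rw [Equiv.apply_symm_apply]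
  rfl

/-- the image of a group element is a given packed permutation as soon as the lists match -/
theorem psi3_eq_perm (g : ↥Spor.Co3) (c : ℕ) (hc : Valid 552 c) (gL : List ℤ → List ℤ)
    (hg : ∀ (v : ↥leechLattice) (l : List ℤ), (v : GolayPt → ℤ) = vecOf l →
      (((g : Equiv.Perm ↥leechLattice) v : ↥leechLattice) : GolayPt → ℤ) = vecOf (gL l))
    (hL : ∀ i < 552, gL (P552 i) = P552 (ap 552 c i)) : psi3 g = perm 552 c := by
  apply Equiv.ext
  intro i
  apply eXS3.injective
  rw [psi3_apply]
  apply Subtype.ext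
  apply Subtype.ext
  rw [XS3_smul_val, hg _ _ (eXS3_val i), hL i.val i.isLt, eXS3_val, perm_apply_val hc]

theorem invA3_1 : invB 552 cA3 cAi3 = true := by decide +kernel
theorem invA3_2 : invB 552 cAi3 cA3 = true := by decide +kernel
theorem invB3_1 : invB 552 cB3 cBi3 = true := by decide +kernel
theorem invB3_2 : invB 552 cBi3 cB3 = true := by decide +kernel
theorem invC3_1 : invB 552 cC3 cCi3 = true := by decide +kernel
theorem invC3_2 : invB 552 cCi3 cC3 = true := by decide +kernel

theorem valid_A3 : Valid 552 cA3 := valid_of_invOf ((invB_iff _ _ _).mp invA3_1)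
theorem valid_Ai3 : Valid 552 cAi3 := valid_of_invOf ((invB_iff _ _ _).mp invA3_2)
theorem valid_B3 : Valid 552 cB3 := valid_of_invOf ((invB_iff _ _ _).mp invB3_1)
theorem valid_Bi3 : Valid 552 cBi3 := valid_of_invOf ((invB_iff _ _ _).mp invB3_2)
theorem valid_C3 : Valid 552 cC3 := valid_of_invOf ((invB_iff _ _ _).mp invC3_1)
theorem valid_Ci3 : Valid 552 cCi3 := valid_of_invOf ((invB_iff _ _ _).mp invC3_2)

theorem perm_Ai3 : perm 552 cAi3 = (perm 552 cA3)⁻¹ :=
  perm_inv_of_invOf ((invB_iff _ _ _).mp invA3_1) valid_Ai3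

theorem perm_Bi3 : perm 552 cBi3 = (perm 552 cB3)⁻¹ :=
  perm_inv_of_invOf ((invB_iff _ _ _).mp invB3_1) valid_Bi3

theorem perm_Ci3 : perm 552 cCi3 = (perm 552 cC3)⁻¹ :=
  perm_inv_of_invOf ((invB_iff _ _ _).mp invC3_1) valid_Ci3

set_option maxRecDepth 100000 in
theorem actA3 : ∀ i < 552, gAL (P552 i) = P552 (ap 552 cA3 i) := by decide +kernel

/-- the check of the action at one point -/
def actOK (gL : List ℤ → List ℤ) (c : ℕ) (i : ℕ) : Bool := decide (gL (P552 i) = P552 (ap 552 c i))

set_option maxRecDepth 100000 in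
theorem actB3_0 : allRange 0 92 (actOK gBL cB3) = true := by decide +kernel

set_option maxRecDepth 100000 in
theorem actB3_1 : allRange 92 92 (actOK gBL cB3) = true := by decide +kernel

set_option maxRecDepth 100000 in
theorem actB3_2 : allRange 184 92 (actOK gBL cB3) = true := by decide +kernel

set_option maxRecDepth 100000 in
theorem actB3_3 : allRange 276 92 (actOK gBL cB3) = true := by decide +kernel

set_option maxRecDepth 100000 in
theorem actB3_4 : allRange 368 92 (actOK gBL cB3) = true := by decide +kernel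

set_option maxRecDepth 100000 in
theorem actB3_5 : allRange 460 92 (actOK gBL cB3) = true := by decide +kernel

theorem actB3 : ∀ i < 552, gBL (P552 i) = P552 (ap 552 cB3 i) := by
  intro i hi
  have h0 := (allRange_iff _ _ _).mp actB3_0 i
  have h1 := (allRange_iff _ _ _).mp actB3_1 i
  have h2 := (allRange_iff _ _ _).mp actB3_2 i
  have h3 := (allRange_iff _ _ _).mp actB3_3 i
  have h4 := (allRange_iff _ _ _).mp actB3_4 i
  have h5 := (allRange_iff _ _ _).mp actB3_5 i
  have key : actOK gBL cB3 i = true := by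
    by_cases c0 : i < 92
    · exact h0 (by omega) (by omega)
    by_cases c1 : i < 184
    · exact h1 (by omega) (by omega)
    by_cases c2 : i < 276
    · exact h2 (by omega) (by omega)
    by_cases c3 : i < 368
    · exact h3 (by omega) (by omega)
    by_cases c4 : i < 460
    · exact h4 (by omega) (by omega)
    · exact h5 (by omega) (by omega)
  exact of_decide_eq_true key

set_option maxRecDepth 100000 in
theorem actC3 : ∀ i < 552, gCL (P552 i) = P552 (ap 552 cC3 i) := by decide +kernel

/-- the first generator in the group -/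
noncomputable def m3A : ↥Spor.Co3 := ⟨McL.gA, gA_mem⟩

/-- the second generator in the group -/
noncomputable def m3B : ↥Spor.Co3 := ⟨McL.gB, gB_mem⟩

/-- the third generator in the group -/
noncomputable def m3C : ↥Spor.Co3 := ⟨gC, gC_mem⟩

theorem psi3_mA : psi3 m3A = perm 552 cA3 := psi3_eq_perm m3A cA3 valid_A3 gAL gA_apply actA3

theorem psi3_mB : psi3 m3B = perm 552 cB3 := psi3_eq_perm m3B cB3 valid_B3 gBL gB_apply actB3

theorem psi3_mC : psi3 m3C = perm 552 cC3 := psi3_eq_perm m3C cC3 valid_C3 gCL gC_apply actC3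

end Cfsg.Agent.Lib.Helper4.Co3
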