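import Cfsg.Agent.Lib.Helper4.Co3.Iso
import Cfsg.Agent.Lib.Helper4.Co3.XData

set_option autoImplicit false

/-!
# Words with further letters for the Conway group `Co₃` on 552 points

Besides the generators and their inverses (letters `0,…,5`) the words may use the letters of `XData`: each of
them is a packed permutation that is checked to be the product of a word in the letters before it, hence an
element of the group `P3`.
-/

namespace Cfsg.Agent.Lib.Helper4.Co3

open Cfsg
open Cfsg.Agent.Lib.Helper10.SX

attribute [local irreducible] perm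

noncomputable section

/-- the packed permutations of all the letters -/
def LTX : List ℕ := [cA3, cAi3, cB3, cBi3, cC3, cCi3] ++ XC

/-- the packed permutation of a letter -/
def ltrX (k : ℕ) : ℕ := LTX.getD k (if k % 2 = 0 then cA3 else cAi3)

/-- the inverse letter -/
def invlX (k : ℕ) : ℕ := if k % 2 = 0 then k + 1 else k - 1

/-- the defining word of the `k`-th further letter -/
def dwX (k : ℕ) : List ℕ := DW.getD k []

/-- the check of the `k`-th further pair of letters -/
def extOK (k : ℕ) : Bool :=
  invB 552 (ltrX (6 + 2 * k)) (ltrX (7 + 2 * k)) && invB 552 (ltrX (7 + 2 * k)) (ltrX (6 + 2 * k)) &&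
  (dwX k).all (fun l => Nat.blt l (6 + 2 * k)) &&
  allLt 552 fun x => Nat.beq (ap 552 (ltrX (6 + 2 * k)) x) (evalL 552 ((dwX k).map ltrX) x)

set_option maxRecDepth 1000000 in
theorem extAll : allLt NX extOK = true := by decide +kernel

theorem LTX_length : LTX.length = 6 + 2 * NX := by decide +kernel

theorem ltrX_low (k : ℕ) (hk : k < 6) : ltrX k = ltr k := by
  interval_cases k <;> rfl

theorem invlX_low (k : ℕ) (hk : k < 6) : invlX k = invl k := by
  interval_cases k <;> rfl

theorem extOK_spec (k : ℕ) (hk : k < NX) : extOK k = true := (allLt_iff _ _).mp extAll k hk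

theorem extOK_inv (m : ℕ) (hm : m < NX) :
    InvOf 552 (ltrX (6 + 2 * m)) (ltrX (7 + 2 * m)) ∧ InvOf 552 (ltrX (7 + 2 * m)) (ltrX (6 + 2 * m)) := by
  have hok := extOK_spec m hm
  unfold extOK at hok
  rw [Bool.and_eq_true, Bool.and_eq_true, Bool.and_eq_true] at hok
  exact ⟨(invB_iff _ _ _).mp hok.1.1.1, (invB_iff _ _ _).mp hok.1.1.2⟩

theorem ltrX_mem : ∀ m ≤ NX, ∀ k < 6 + 2 * m, Valid 552 (ltrX k) ∧ perm 552 (ltrX k) ∈ P3 := by
  intro m
  induction m with
  | zero =>
    intro _ k hk
    have hk6 : k < 6 := by omega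
    rw [ltrX_low k hk6]
    exact ⟨(ltr_ok k).1, (ltr_ok k).2.1⟩
  | succ m ih =>
    intro hm k hk
    by_cases hlt : k < 6 + 2 * m
    · exact ih (by omega) k hlt
    · have hok := extOK_spec m (by omega)
      unfold extOK at hok
      rw [Bool.and_eq_true, Bool.and_eq_true, Bool.and_eq_true] at hok
      obtain ⟨⟨⟨h1, h2⟩, h3⟩, h4⟩ := hok
      have v1 : Valid 552 (ltrX (6 + 2 * m)) := valid_of_invOf ((invB_iff _ _ _).mp h1)
      have v2 : Valid 552 (ltrX (7 + 2 * m)) := valid_of_invOf ((invB_iff _ _ _).mp h2)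
      have hl : ∀ l ∈ dwX m, l < 6 + 2 * m := by
        intro l hl
        have h5 := List.all_eq_true.mp h3 l hl
        simpa [Nat.blt] using h5
      have hv : ∀ c ∈ (dwX m).map ltrX, Valid 552 c := by
        intro c hc
        obtain ⟨l, hl', rfl⟩ := List.mem_map.mp hc
        exact (ih (by omega) l (hl l hl')).1
      have hp : perm 552 (ltrX (6 + 2 * m)) = prodL 552 ((dwX m).map ltrX) := by
        apply Equiv.ext
        intro i
        apply Fin.ext
        rw [perm_apply_val v1, prodL_apply_val _ hv i]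
        exact Nat.eq_of_beq_eq_true ((allLt_iff _ _).mp h4 i.val i.isLt)
      have m1 : perm 552 (ltrX (6 + 2 * m)) ∈ P3 := by
        rw [hp]
        apply prodL_mem
        intro c hc
        obtain ⟨l, hl', rfl⟩ := List.mem_map.mp hc
        exact (ih (by omega) l (hl l hl')).2
      have hinv : perm 552 (ltrX (7 + 2 * m)) = (perm 552 (ltrX (6 + 2 * m)))⁻¹ :=
        perm_inv_of_invOf ((invB_iff _ _ _).mp h1) v2
      have hk' : k = 6 + 2 * m ∨ k = 7 + 2 * m := by omega
      rcases hk' with rfl | rfl
      · exact ⟨v1, m1⟩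
      · exact ⟨v2, by rw [hinv]; exact P3.inv_mem m1⟩

theorem ltrX_ok (k : ℕ) : Valid 552 (ltrX k) ∧ perm 552 (ltrX k) ∈ P3 ∧
    perm 552 (ltrX (invlX k)) = (perm 552 (ltrX k))⁻¹ := by
  by_cases hk : k < 6 + 2 * NX
  · refine ⟨(ltrX_mem NX le_rfl k hk).1, (ltrX_mem NX le_rfl k hk).2, ?_⟩
    by_cases h6 : k < 6
    · have h6' : invlX k < 6 := by
        rw [invlX_low k h6]
        interval_cases k <;> decide
      rw [ltrX_low _ h6', invlX_low k h6, ltrX_low k h6]
      exact (ltr_ok k).2.2
    · rcases Nat.even_or_odd k with he | ho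
      · obtain ⟨m, hm⟩ : ∃ m, k = 6 + 2 * m := ⟨(k - 6) / 2, by
          obtain ⟨r, hr⟩ := he; omega⟩
        subst hm
        have hmN : m < NX := by omega
        have hi : invlX (6 + 2 * m) = 7 + 2 * m := by
          unfold invlX
          rw [if_pos (by omega)]
          omega
        rw [hi]
        exact perm_inv_of_invOf (extOK_inv m hmN).1 (valid_of_invOf (extOK_inv m hmN).2)
      · obtain ⟨m, hm⟩ : ∃ m, k = 7 + 2 * m := ⟨(k - 7) / 2, by
          obtain ⟨r, hr⟩ := ho; omega⟩
        subst hm
        have hmN : m < NX := by omega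
        have hi : invlX (7 + 2 * m) = 6 + 2 * m := by
          unfold invlX
          rw [if_neg (by omega)]
          omega
        rw [hi]
        exact perm_inv_of_invOf (extOK_inv m hmN).2 (valid_of_invOf (extOK_inv m hmN).1)
  · have hk' : 6 + 2 * NX ≤ k := by omega
    have hd : ∀ j, 6 + 2 * NX ≤ j → ltrX j = if j % 2 = 0 then cA3 else cAi3 := by
      intro j hj
      unfold ltrX
      exact List.getD_eq_default _ _ (by rw [LTX_length]; exact hj)
    rcases Nat.even_or_odd k with he | ho
    · have hk2 : k % 2 = 0 := Nat.even_iff.mp he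
      have hi : invlX k = k + 1 := by unfold invlX; rw [if_pos hk2]
      rw [hi, hd k hk', hd (k + 1) (by omega), if_pos hk2, if_neg (by omega)]
      exact ⟨valid_A3, perm_mem_grp mem_A, perm_Ai3⟩
    · have hk2 : k % 2 = 1 := Nat.odd_iff.mp ho
      have hi : invlX k = k - 1 := by unfold invlX; rw [if_neg (by omega)]
      have hk1 : 6 + 2 * NX ≤ k - 1 := by
        have : k ≠ 6 + 2 * NX := by
          intro h
          rw [h] at hk2
          omega
        omega
      rw [hi, hd k hk', hd (k - 1) hk1, if_neg (by omega), if_pos (by omega)]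
      refine ⟨valid_Ai3, ?_, ?_⟩
      · rw [perm_Ai3]
        exact P3.inv_mem (perm_mem_grp mem_A)
      · rw [perm_Ai3, inv_inv]

/-- the codes of the letters of a word -/
def codesX (w : List ℕ) : List ℕ := w.map ltrX

/-- the permutation of a word (the head of the word is applied last) -/
def pwX (w : List ℕ) : Equiv.Perm (Fin 552) := prodL 552 (codesX w)

/-- the image of a point under a word -/
def evX (w : List ℕ) (x : ℕ) : ℕ := evalL 552 (codesX w) x

/-- the inverse word -/
def winvX (w : List ℕ) : List ℕ := (w.map invlX).reverse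

theorem codesX_valid (w : List ℕ) : ∀ c ∈ codesX w, Valid 552 c := by
  intro c hc
  obtain ⟨k, -, rfl⟩ := List.mem_map.mp hc
  exact (ltrX_ok k).1

theorem pwX_mem (w : List ℕ) : pwX w ∈ P3 := by
  apply prodL_mem
  intro c hc
  obtain ⟨k, -, rfl⟩ := List.mem_map.mp hc
  exact (ltrX_ok k).2.1

theorem pwX_nil : pwX [] = 1 := rfl

theorem pwX_append (w w' : List ℕ) : pwX (w ++ w') = pwX w * pwX w' := by
  unfold pwX codesX
  rw [List.map_append, prodL_append]

theorem pwX_cons (k : ℕ) (w : List ℕ) : pwX (k :: w) = perm 552 (ltrX k) * pwX w := by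
  unfold pwX codesX
  rw [List.map_cons, prodL_cons]

theorem pwX_winv (w : List ℕ) : pwX (winvX w) = (pwX w)⁻¹ := by
  induction w with
  | nil => exact inv_one.symm
  | cons k w ih =>
    have : winvX (k :: w) = winvX w ++ [invlX k] := by
      unfold winvX
      rw [List.map_cons, List.reverse_cons]
    rw [this, pwX_append, ih, pwX_cons, pwX_cons, pwX_nil, mul_one, (ltrX_ok k).2.2, mul_inv_rev]

theorem pwX_apply_val (w : List ℕ) (i : Fin 552) : (pwX w i).val = evX w i.val :=
  prodL_apply_val _ (codesX_valid w) i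

/-- the element of the group of a word -/
def gwX (w : List ℕ) : ↥P3 := ⟨pwX w, pwX_mem w⟩

theorem gwX_nil : gwX [] = 1 := rfl

theorem gwX_append (w w' : List ℕ) : gwX (w ++ w') = gwX w * gwX w' :=
  Subtype.ext (pwX_append w w')

theorem gwX_cons (k : ℕ) (w : List ℕ) : gwX (k :: w) = gwX [k] * gwX w :=
  gwX_append [k] w

theorem gwX_winv (w : List ℕ) : gwX (winvX w) = (gwX w)⁻¹ :=
  Subtype.ext (pwX_winv w)

theorem gwX_smul_val (w : List ℕ) (i : Fin 552) : (gwX w • i).val = evX w i.val :=
  pwX_apply_val w i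

theorem gwX_val_single (k : ℕ) : (gwX [k]).val = perm 552 (ltrX k) := by
  show pwX [k] = _
  rw [pwX_cons, pwX_nil, mul_one]

/-! ### equality of words -/

/-- Boolean equality of the images of the base points under two words -/
def sigEqX (w w' : List ℕ) : Bool :=
  [0, 1, 2, 3, 4, 5].all fun x => Nat.beq (evX w x) (evX w' x)

theorem gwX_eq_of_sig {w w' : List ℕ} (h : ∀ b < 6, evX w b = evX w' b) : gwX w = gwX w' := by
  have h1 : (gwX w')⁻¹ * gwX w = 1 := by
    apply rigid
    intro b hb
    rw [mul_smul, inv_smul_eq_iff]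
    apply Fin.ext
    rw [gwX_smul_val, gwX_smul_val, fpt_val (by omega)]
    exact h b hb
  rw [inv_mul_eq_one] at h1
  exact h1.symm

theorem sigEqX_iff (w w' : List ℕ) : sigEqX w w' = true ↔ gwX w = gwX w' := by
  unfold sigEqX
  rw [List.all_eq_true]
  constructor
  · intro h
    apply gwX_eq_of_sig
    intro b hb
    apply Nat.eq_of_beq_eq_true
    apply h
    have : b = 0 ∨ b = 1 ∨ b = 2 ∨ b = 3 ∨ b = 4 ∨ b = 5 := by omega
    rcases this with rfl | rfl | rfl | rfl | rfl | rfl <;> simp
  · intro h x hx
    have hx' : x < 552 := by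
      simp only [List.mem_cons, List.not_mem_nil, or_false] at hx
      rcases hx with rfl | rfl | rfl | rfl | rfl | rfl <;> norm_num
    have := congrArg (fun g : ↥P3 => (g • (⟨x, hx'⟩ : Fin 552)).val) h
    simp only [gwX_smul_val] at this
    rw [this]
    exact Nat.beq_refl _

theorem sigEqX_eq_false_iff (w w' : List ℕ) : sigEqX w w' = false ↔ gwX w ≠ gwX w' := by
  rw [Ne, ← sigEqX_iff, Bool.not_eq_true]

/-! ### powers of words -/

/-- the power of a word -/
def rpt : ℕ → List ℕ → List ℕ
  | 0, _ => []
  | m + 1, l => l ++ rpt m l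

theorem gwX_rpt (m : ℕ) (l : List ℕ) : gwX (rpt m l) = gwX l ^ m := by
  induction m with
  | zero => rfl
  | succ m ih => rw [rpt, gwX_append, ih, pow_succ']

/-! ### codes of elements -/

/-- the code of the images of the six base points under a word -/
def codeX (w : List ℕ) : ℕ :=
  evX w 0 * 1125899906842624 + evX w 1 * 1099511627776 + evX w 2 * 1073741824 + evX w 3 * 1048576 +
    evX w 4 * 1024 + evX w 5

/-- the code of the images of the six base points under an element -/
def hcode (g : ↥P3) : ℕ :=
  (g • fpt 0).val * 1125899906842624 + (g • fpt 1).val * 1099511627776 + (g • fpt 2).val * 1073741824 +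
    (g • fpt 3).val * 1048576 + (g • fpt 4).val * 1024 + (g • fpt 5).val

theorem codeX_eq (w : List ℕ) : codeX w = hcode (gwX w) := by
  unfold codeX hcode
  rw [gwX_smul_val, gwX_smul_val, gwX_smul_val, gwX_smul_val, gwX_smul_val, gwX_smul_val,
    fpt_val (by norm_num), fpt_val (by norm_num), fpt_val (by norm_num), fpt_val (by norm_num),
    fpt_val (by norm_num), fpt_val (by norm_num)]

theorem hcode_injective : Function.Injective hcode := by
  intro g g' h
  unfold hcode at h
  have b0 := (g • fpt 0).isLt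
  have b1 := (g • fpt 1).isLt
  have b2 := (g • fpt 2).isLt
  have b3 := (g • fpt 3).isLt
  have b4 := (g • fpt 4).isLt
  have b5 := (g • fpt 5).isLt
  have c0 := (g' • fpt 0).isLt
  have c1 := (g' • fpt 1).isLt
  have c2 := (g' • fpt 2).isLt
  have c3 := (g' • fpt 3).isLt
  have c4 := (g' • fpt 4).isLt
  have c5 := (g' • fpt 5).isLt
  have e0 : (g • fpt 0).val = (g' • fpt 0).val := by omega
  have e1 : (g • fpt 1).val = (g' • fpt 1).val := by omega
  have e2 : (g • fpt 2).val = (g' • fpt 2).val := by omega
  have e3 : (g • fpt 3).val = (g' • fpt 3).val := by omega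
  have e4 : (g • fpt 4).val = (g' • fpt 4).val := by omega
  have e5 : (g • fpt 5).val = (g' • fpt 5).val := by omega
  have h1 : g'⁻¹ * g = 1 := by
    apply rigid
    intro b hb
    rw [mul_smul, inv_smul_eq_iff]
    apply Fin.ext
    have : b = 0 ∨ b = 1 ∨ b = 2 ∨ b = 3 ∨ b = 4 ∨ b = 5 := by omega
    rcases this with rfl | rfl | rfl | rfl | rfl | rfl
    · exact e0
    · exact e1
    · exact e2
    · exact e3
    · exact e4
    · exact e5
  rw [inv_mul_eq_one] at h1
  exact h1.symm

end

end Cfsg.Agent.Lib.Helper4.Co3
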