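import Cfsg.Agent.Lib.Helper4.McL.Gens
import Cfsg.Agent.Lib.Helper4.Co3.Data

set_option autoImplicit false

/-!
# Three explicit elements of the Conway group `Co₃` of the definitions

`gA`, `gB` are the two elements of the McLaughlin group of `McL.Gens`; `gC` is the permutation `x ↦ x + 1` of the
coordinates (an element of `M₂₃`).  All three fix the vector `(-5, -1^23)`.
-/

namespace Cfsg.Agent.Lib.Helper4.Co3

open Cfsg
open Cfsg.Agent.Lib.Helper3.Golay
open Cfsg.Agent.Lib.Helper14.LeechXi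
open Cfsg.Agent.Lib.Helper14.LeechMono
open Cfsg.Agent.Lib.Helper4.McL (vecOf monoT monoT_mem monoT_apply spL gAL gBL lV lU leechV_eq leechU_eq)

theorem hTC : okInv TC TCi = true := by decide
theorem hTC' : okInv TCi TC = true := by decide
theorem hTCc : codeOK TC = true := by decide

/-- the third generator -/
noncomputable def gC : Equiv.Perm ↥leechLattice :=
  monoT TC TCi hTC hTC' hTCc 0 (by norm_num) (by decide)

/-- the third generator on lists -/
def gCL (l : List ℤ) : List ℤ := spL TCi 0 l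

theorem gC_mem_Co0 : gC ∈ Co0 := monoT_mem _ _ _ _ _ _ _ _

theorem gC_apply (v : ↥leechLattice) (l : List ℤ) (hv : (v : GolayPt → ℤ) = vecOf l) :
    ((gC v : ↥leechLattice) : GolayPt → ℤ) = vecOf (gCL l) :=
  monoT_apply _ _ _ _ _ _ _ _ v l hv

theorem gCL_lV : gCL lV = lV := by decide

theorem mem_Co3_iff (g : Equiv.Perm ↥leechLattice) :
    g ∈ Spor.Co3 ↔ g ∈ Co0 ∧ g Spor.leechV = Spor.leechV := by
  unfold Spor.Co3
  rw [Subgroup.mem_inf, MulAction.mem_stabilizer_iff]
  rfl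

theorem McL_le_Co3 : Spor.McL ≤ Spor.Co3 := by
  unfold Spor.McL
  exact inf_le_left

theorem gA_mem : McL.gA ∈ Spor.Co3 := McL_le_Co3 Cfsg.Agent.Lib.Helper4.McL.gA_mem

theorem gB_mem : McL.gB ∈ Spor.Co3 := McL_le_Co3 Cfsg.Agent.Lib.Helper4.McL.gB_mem

theorem gC_mem : gC ∈ Spor.Co3 := by
  rw [mem_Co3_iff]
  refine ⟨gC_mem_Co0, Subtype.ext ?_⟩
  rw [gC_apply _ _ leechV_eq, gCL_lV, leechV_eq]

end Cfsg.Agent.Lib.Helper4.Co3
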