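import Cfsg.Agent.Lib.Helper4.Co3.OMisc
import Cfsg.Agent.Lib.Helper4.Co3.ORep0
import Cfsg.Agent.Lib.Helper4.Co3.ORep1
import Cfsg.Agent.Lib.Helper4.Co3.ORep2
import Cfsg.Agent.Lib.Helper4.Co3.ORep3
import Cfsg.Agent.Lib.Helper4.Co3.ORep4
import Cfsg.Agent.Lib.Helper4.Co3.ORep5
import Cfsg.Agent.Lib.Helper4.Co3.ORep6
import Cfsg.Agent.Lib.Helper4.Co3.ORep7
import Cfsg.Agent.Lib.Helper4.Co3.ORep8
import Cfsg.Agent.Lib.Helper4.Co3.ORep9
import Cfsg.Agent.Lib.Helper4.Co3.ORep10
import Cfsg.Agent.Lib.Helper4.Co3.ORep11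
import Cfsg.Agent.Lib.Helper4.Co3.ORep12
import Cfsg.Agent.Lib.Helper4.Co3.ORep13
import Cfsg.Agent.Lib.Helper4.Co3.ORep14

set_option autoImplicit false

/-!
# The Conway group `Co₃` on 552 points has no outer automorphisms
-/

namespace Cfsg.Agent.Lib.Helper4.Co3

open Cfsg
open Cfsg.Agent.Lib.Helper10.SX Cfsg.Agent.Lib.Helper10.OutG
open Cfsg.Agent.Lib.Helper4.McL (incrFrom incrAll incrFrom_lt incrFrom_flatten)
open MulAction

attribute [local irreducible] perm

noncomputable section

/-! ### the generating pair -/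

theorem t_sq : t * t = 1 := by
  rw [t, ← gwX_append]
  exact (sigEqX_iff _ _).mp sqT

theorem t_ne : t ≠ 1 := (sigEqX_eq_false_iff [6] []).mp neT

theorem orderOf_t : orderOf t = 2 :=
  orderOf_eq_prime (by rw [pow_two]; exact t_sq) t_ne

theorem y_pow : y ^ 23 = 1 := by
  rw [y, ← gwX_rpt]
  exact (sigEqX_iff _ _).mp y23

theorem y_ne : y ≠ 1 := (sigEqX_eq_false_iff [4] []).mp neY

instance fact23 : Fact (Nat.Prime 23) := ⟨by norm_num⟩

theorem orderOf_y : orderOf y = 23 := orderOf_eq_prime y_pow y_ne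

theorem y_pow_22 : y ^ 22 = y⁻¹ := by
  rw [eq_inv_iff_mul_eq_one, ← pow_succ]
  exact y_pow

/-- the element of order 11 normalising the subgroup of order 23 -/
def nn : ↥P3 := gwX [0]

theorem nn_conj : nn * y * nn⁻¹ = y ^ 2 := by
  have h := (sigEqX_iff _ _).mp normY
  have e1 : gwX [0, 4, 1] = gwX [0] * gwX [4] * (gwX [0])⁻¹ := by
    have : ([0, 4, 1] : List ℕ) = [0] ++ ([4] ++ winvX [0]) := rfl
    rw [this, gwX_append, gwX_append, gwX_winv, mul_assoc]
  have e2 : gwX [4, 4] = y ^ 2 := gwX_rpt 2 [4]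
  rw [e1, e2] at h
  exact h

theorem nn_pow_conj (i m : ℕ) : nn ^ i * y ^ m * (nn ^ i)⁻¹ = y ^ (m * 2 ^ i) := by
  induction i with
  | zero => rw [pow_zero, one_mul, inv_one, mul_one, pow_zero, mul_one]
  | succ i ih =>
    have e : nn ^ (i + 1) * y ^ m * (nn ^ (i + 1))⁻¹ =
        nn * (nn ^ i * y ^ m * (nn ^ i)⁻¹) * nn⁻¹ := by
      rw [pow_succ']
      group
    rw [e, ih, ← conj_pow, nn_conj, ← pow_mul, pow_succ]
    congr 1
    ring

theorem exists_conj_pow (y' : ↥P3) (hy' : orderOf y' = 23) :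
    ∃ g : ↥P3, g * y' * g⁻¹ = y ∨ g * y' * g⁻¹ = y⁻¹ := by
  obtain ⟨g0, hg0⟩ := exists_conj_mem_zpowers 23 (by rw [card_P3]; norm_num [NCo3]) y y' orderOf_y hy'
  have ho : orderOf (g0 * y' * g0⁻¹) = 23 := by
    rw [← MulAut.conj_apply, MulEquiv.orderOf_eq]
    exact hy'
  rw [← mem_powers_iff_mem_zpowers, Submonoid.mem_powers_iff] at hg0
  obtain ⟨m, hm⟩ := hg0
  have hm' : y ^ (m % 23) = g0 * y' * g0⁻¹ := by
    rw [← hm, ← orderOf_y, pow_mod_orderOf]
  have hm0 : m % 23 ≠ 0 := by
    intro h0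
    rw [h0, pow_zero] at hm'
    rw [← hm', orderOf_one] at ho
    omega
  have hdec : ∀ r < 23, r ≠ 0 → ∃ i < 11, (r * 2 ^ i) % 23 = 1 ∨ (r * 2 ^ i) % 23 = 22 := by
    decide
  obtain ⟨i, -, hi⟩ := hdec (m % 23) (Nat.mod_lt _ (by norm_num)) hm0
  refine ⟨nn ^ i * g0, ?_⟩
  have e : nn ^ i * g0 * y' * (nn ^ i * g0)⁻¹ = nn ^ i * (g0 * y' * g0⁻¹) * (nn ^ i)⁻¹ := by
    group
  rw [e, ← hm', nn_pow_conj]
  have hp : y ^ (m % 23 * 2 ^ i) = y ^ ((m % 23 * 2 ^ i) % 23) := by
    rw [← orderOf_y, pow_mod_orderOf]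
  rw [hp]
  rcases hi with hi | hi
  · left
    rw [hi, pow_one]
  · right
    rw [hi, y_pow_22]

/-! ### the involutions -/

theorem clS : ClosedList 1024 SWs SGS SMT := ⟨⟨0, by norm_num, oneS⟩, lettersS, tableS, distinctS⟩

/-- the Sylow 2-subgroup -/
def S2 : Subgroup ↥P3 := clS.subgroup

theorem card_S2 : Nat.card ↥S2 = 2 ^ 10 := clS.card_subgroup

/-- the involution of the second class -/
def s : ↥P3 := gwX [80]

theorem invol_S2 : ∀ g ∈ S2, orderOf g = 2 → IsConj t g ∨ IsConj s g := by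
  rintro g ⟨i, hi, rfl⟩ h2
  have h := involS
  unfold involB2 at h
  rw [allLt_iff] at h
  have h := h i hi
  rw [Bool.or_eq_true, Bool.or_eq_true] at h
  rcases h with (h | h) | h
  · exfalso
    rw [(sigEqX_iff _ _).mp h, gwX_nil, orderOf_one] at h2
    omega
  · exfalso
    rw [Bool.not_eq_true', sigEqX_eq_false_iff, gwX_append] at h
    apply h
    rw [← pow_two, ← h2, pow_orderOf_eq_one]
    rfl
  · rw [Bool.and_eq_true, Bool.or_eq_true] at h
    obtain ⟨hl, h1⟩ := h
    have h1 := (sigEqX_iff _ _).mp h1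
    rw [gwX_conjWX] at h1
    rcases hl with hl | hl
    · left
      rw [beq_iff_eq] at hl
      rw [hl] at h1
      exact isConj_iff.mpr ⟨gwX (SSC.getD i (0, [])).2, h1.symm⟩
    · right
      rw [beq_iff_eq] at hl
      rw [hl] at h1
      exact isConj_iff.mpr ⟨gwX (SSC.getD i (0, [])).2, h1.symm⟩

/-- every involution is conjugate to `t` or to `s` -/
theorem invol_conj (x : ↥P3) (hx : orderOf x = 2) : IsConj t x ∨ IsConj s x := by
  obtain ⟨g, hg⟩ := exists_conj_mem_of_sylow 484147125 10 (by decide)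
    (by rw [card_P3]; norm_num [NCo3]) S2 card_S2 x hx
  have hy2 : orderOf (g * x * g⁻¹) = 2 := by
    rw [← MulAut.conj_apply, MulEquiv.orderOf_eq]
    exact hx
  have hc : IsConj (g * x * g⁻¹) x := isConj_iff.mpr ⟨g⁻¹, by group⟩
  rcases invol_S2 _ hg hy2 with h | h
  · exact Or.inl (h.trans hc)
  · exact Or.inr (h.trans hc)

/-! ### the order of the centraliser of the involution -/

theorem card_C_ge : 2903040 ≤ Nat.card ↥(Subgroup.centralizer ({t} : Set ↥P3)) := by
  have h := card_centralizer_ge 6 lvC chainC centC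
  rw [prodC] at h
  exact h

/-! ### the list of the conjugates of the involution -/

/-- the parts of the list of the representatives -/
def RDs : List (List (List ℕ × ℕ × ℕ)) := [RD0, RD1, RD2, RD3, RD4, RD5, RD6, RD7, RD8, RD9, RD10, RD11, RD12, RD13, RD14, RD15, RD16, RD17, RD18, RD19, RD20, RD21, RD22, RD23, RD24, RD25, RD26, RD27, RD28, RD29, RD30, RD31, RD32, RD33, RD34, RD35, RD36, RD37, RD38, RD39, RD40, RD41, RD42, RD43, RD44]

/-- the list of the representatives -/
def RD : List (List ℕ × ℕ × ℕ) := RDs.flatten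

set_option maxRecDepth 1000000 in
theorem incrM : incrAll 0 (RDs.map fun l => l.map fun d => d.2.1) = true := by
  decide +kernel

set_option maxRecDepth 1000000 in
theorem lenRD : (RDs.map List.length).sum = 7425 := by
  decide +kernel

/-- the representative of an entry -/
def rep (d : List ℕ × ℕ × ℕ) : ↥P3 := gwX d.1 * t * (gwX d.1)⁻¹

/-- the orbit of an entry -/
def orbL (d : List ℕ × ℕ × ℕ) : List ↥P3 := (List.range 23).map fun i => y ^ i * rep d * (y ^ i)⁻¹

/-- the list of the conjugates -/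
def clsL : List ↥P3 := RD.flatMap orbL

theorem mem_RDs {d : List ℕ × ℕ × ℕ} (hd : d ∈ RD) : ∃ l ∈ RDs, d ∈ l := List.mem_flatten.mp hd

theorem all_rp {d : List ℕ × ℕ × ℕ} (hd : d ∈ RD) : repOK d = true := by
  obtain ⟨l, hl, hdl⟩ := mem_RDs hd
  have key : l.all repOK = true := by
    simp only [RDs, List.mem_cons, List.not_mem_nil, or_false] at hl
    rcases hl with rfl | rfl | rfl | rfl | rfl | rfl | rfl | rfl | rfl | rfl | rfl | rfl | rfl | rfl | rfl | rfl | rfl | rfl | rfl | rfl | rfl | rfl | rfl | rfl | rfl | rfl | rfl | rfl | rfl | rfl | rfl | rfl | rfl | rfl | rfl | rfl | rfl | rfl | rfl | rfl | rfl | rfl | rfl | rfl | rfl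
    · exact rp0
    · exact rp1
    · exact rp2
    · exact rp3
    · exact rp4
    · exact rp5
    · exact rp6
    · exact rp7
    · exact rp8
    · exact rp9
    · exact rp10
    · exact rp11
    · exact rp12
    · exact rp13
    · exact rp14
    · exact rp15
    · exact rp16
    · exact rp17
    · exact rp18
    · exact rp19
    · exact rp20
    · exact rp21
    · exact rp22
    · exact rp23
    · exact rp24
    · exact rp25
    · exact rp26
    · exact rp27
    · exact rp28
    · exact rp29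
    · exact rp30
    · exact rp31
    · exact rp32
    · exact rp33
    · exact rp34
    · exact rp35
    · exact rp36
    · exact rp37
    · exact rp38
    · exact rp39
    · exact rp40
    · exact rp41
    · exact rp42
    · exact rp43
    · exact rp44
  exact List.all_eq_true.mp key d hdl

theorem all_ra {d : List ℕ × ℕ × ℕ} (hd : d ∈ RD) : relFail (conjWX 6 d.1) 0 = true ∨ d.1 = [] := by
  obtain ⟨l, hl, hdl⟩ := mem_RDs hd
  have key : (l.all fun d => relFail (conjWX 6 d.1) 0 || d.1.isEmpty) = true := by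
    simp only [RDs, List.mem_cons, List.not_mem_nil, or_false] at hl
    rcases hl with rfl | rfl | rfl | rfl | rfl | rfl | rfl | rfl | rfl | rfl | rfl | rfl | rfl | rfl | rfl | rfl | rfl | rfl | rfl | rfl | rfl | rfl | rfl | rfl | rfl | rfl | rfl | rfl | rfl | rfl | rfl | rfl | rfl | rfl | rfl | rfl | rfl | rfl | rfl | rfl | rfl | rfl | rfl | rfl | rfl
    · exact ra0
    · exact ra1
    · exact ra2
    · exact ra3
    · exact ra4
    · exact ra5
    · exact ra6
    · exact ra7
    · exact ra8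
    · exact ra9
    · exact ra10
    · exact ra11
    · exact ra12
    · exact ra13
    · exact ra14
    · exact ra15
    · exact ra16
    · exact ra17
    · exact ra18
    · exact ra19
    · exact ra20
    · exact ra21
    · exact ra22
    · exact ra23
    · exact ra24
    · exact ra25
    · exact ra26
    · exact ra27
    · exact ra28
    · exact ra29
    · exact ra30
    · exact ra31
    · exact ra32
    · exact ra33
    · exact ra34
    · exact ra35
    · exact ra36
    · exact ra37
    · exact ra38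
    · exact ra39
    · exact ra40
    · exact ra41
    · exact ra42
    · exact ra43
    · exact ra44
  have h := List.all_eq_true.mp key d hdl
  rw [Bool.or_eq_true] at h
  rcases h with h | h
  · exact Or.inl h
  · exact Or.inr (List.isEmpty_iff.mp h)

theorem all_rb {d : List ℕ × ℕ × ℕ} (hd : d ∈ RD) : relFail (conjWX 6 d.1) 1 = true := by
  obtain ⟨l, hl, hdl⟩ := mem_RDs hd
  have key : (l.all fun d => relFail (conjWX 6 d.1) 1) = true := by
    simp only [RDs, List.mem_cons, List.not_mem_nil, or_false] at hl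
    rcases hl with rfl | rfl | rfl | rfl | rfl | rfl | rfl | rfl | rfl | rfl | rfl | rfl | rfl | rfl | rfl | rfl | rfl | rfl | rfl | rfl | rfl | rfl | rfl | rfl | rfl | rfl | rfl | rfl | rfl | rfl | rfl | rfl | rfl | rfl | rfl | rfl | rfl | rfl | rfl | rfl | rfl | rfl | rfl | rfl | rfl
    · exact rb0
    · exact rb1
    · exact rb2
    · exact rb3
    · exact rb4
    · exact rb5
    · exact rb6
    · exact rb7
    · exact rb8
    · exact rb9
    · exact rb10
    · exact rb11
    · exact rb12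
    · exact rb13
    · exact rb14
    · exact rb15
    · exact rb16
    · exact rb17
    · exact rb18
    · exact rb19
    · exact rb20
    · exact rb21
    · exact rb22
    · exact rb23
    · exact rb24
    · exact rb25
    · exact rb26
    · exact rb27
    · exact rb28
    · exact rb29
    · exact rb30
    · exact rb31
    · exact rb32
    · exact rb33
    · exact rb34
    · exact rb35
    · exact rb36
    · exact rb37
    · exact rb38
    · exact rb39
    · exact rb40
    · exact rb41
    · exact rb42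
    · exact rb43
    · exact rb44
  exact List.all_eq_true.mp key d hdl

theorem pairwise_of_incrFrom : ∀ (l : List ℕ) (lo : ℕ), incrFrom lo l = true → l.Pairwise (· < ·)
  | [], _, _ => List.Pairwise.nil
  | a :: l, lo, h => by
    rw [incrFrom, Bool.and_eq_true] at h
    exact List.Pairwise.cons (fun b hb => incrFrom_lt l a h.2 b hb) (pairwise_of_incrFrom l a h.2)

theorem RD_pairwise : RD.Pairwise fun a b => a.2.1 < b.2.1 := by
  have h := pairwise_of_incrFrom _ 0 (incrFrom_flatten _ 0 incrM)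
  rw [← List.map_flatten, List.pairwise_map] at h
  exact h

theorem RD_length : RD.length = 7425 := by
  unfold RD
  rw [List.length_flatten]
  exact lenRD

theorem rep_spec {d : List ℕ × ℕ × ℕ} (hd : d ∈ RD) :
    omin (rep d) = d.2.1 ∧ rep d * y ≠ y * rep d := repOK_spec ywOK y_pow (all_rp hd)

theorem comm_of_pow_comm (r : ↥P3) (k : ℕ) (h0 : 0 < k) (hk : k < 23) (h : y ^ k * r = r * y ^ k) :
    r * y = y * r := by
  have hdec : ∀ k < 23, 0 < k → ∃ e < 23, (k * e) % 23 = 1 := by decide
  obtain ⟨e, -, he⟩ := hdec k hk h0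
  have hy : y = (y ^ k) ^ e := by
    rw [← pow_mul, pow_mod_23 y_pow, he, pow_one]
  have hc : Commute (y ^ k) r := h
  have := hc.pow_left e
  rw [← hy] at this
  exact this.eq.symm

theorem orb_inj (r : ↥P3) (hr : r * y ≠ y * r) : ∀ i j : ℕ, i < 23 → j < 23 → i ≤ j →
    y ^ i * r * (y ^ i)⁻¹ = y ^ j * r * (y ^ j)⁻¹ → i = j := by
  intro i j _ hj hij h
  by_contra hne
  apply hr
  apply comm_of_pow_comm r (j - i) (by omega) (by omega)
  have e : y ^ j = y ^ (j - i) * y ^ i := by
    rw [← pow_add]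
    congr 1
    omega
  rw [e] at h
  have h2 : r = y ^ (j - i) * r * (y ^ (j - i))⁻¹ := by
    have := congrArg (fun x => (y ^ i)⁻¹ * x * y ^ i) h
    calc r = (y ^ i)⁻¹ * (y ^ i * r * (y ^ i)⁻¹) * y ^ i := by group
      _ = (y ^ i)⁻¹ * (y ^ (j - i) * y ^ i * r * (y ^ (j - i) * y ^ i)⁻¹) * y ^ i := this
      _ = y ^ (j - i) * r * (y ^ (j - i))⁻¹ := by
        have hc : y ^ (j - i) * y ^ i = y ^ i * y ^ (j - i) := (Commute.pow_pow_self y _ _).eq
        rw [hc]
        group
  calc y ^ (j - i) * r = y ^ (j - i) * r * (y ^ (j - i))⁻¹ * y ^ (j - i) := by group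
    _ = r * y ^ (j - i) := by rw [← h2]

theorem orbL_nodup {d : List ℕ × ℕ × ℕ} (hd : d ∈ RD) : (orbL d).Nodup := by
  unfold orbL
  apply List.Nodup.map_on _ List.nodup_range
  intro i hi j hj h
  have hi' := List.mem_range.mp hi
  have hj' := List.mem_range.mp hj
  rcases le_total i j with hij | hij
  · exact orb_inj _ (rep_spec hd).2 i j hi' hj' hij h
  · exact (orb_inj _ (rep_spec hd).2 j i hj' hi' hij h.symm).symm

theorem omin_orbL {d : List ℕ × ℕ × ℕ} (hd : d ∈ RD) {x : ↥P3} (hx : x ∈ orbL d) : omin x = d.2.1 := by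
  obtain ⟨i, -, rfl⟩ := List.mem_map.mp hx
  rw [omin_conj y_pow, (rep_spec hd).1]

theorem clsL_nodup : clsL.Nodup := by
  unfold clsL
  rw [List.nodup_flatMap]
  refine ⟨fun d hd => orbL_nodup hd, ?_⟩
  apply List.Pairwise.imp_of_mem _ RD_pairwise
  intro a b ha hb hab
  show List.Disjoint (orbL a) (orbL b)
  intro x hxa hxb
  have h1 := omin_orbL ha hxa
  have h2 := omin_orbL hb hxb
  omega

theorem length_flatMap_const {α β : Type*} (f : α → List β) (c : ℕ) :
    ∀ l : List α, (∀ x ∈ l, (f x).length = c) → (l.flatMap f).length = c * l.length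
  | [], _ => by simp
  | a :: l, h => by
    rw [List.flatMap_cons, List.length_append, h a List.mem_cons_self,
      length_flatMap_const f c l (fun x hx => h x (List.mem_cons_of_mem _ hx)), List.length_cons]
    ring

theorem clsL_length : clsL.length = 170775 := by
  unfold clsL
  rw [length_flatMap_const orbL 23 RD (fun d _ => by unfold orbL; rw [List.length_map, List.length_range]),
    RD_length]

theorem clsL_conj {x : ↥P3} (hx : x ∈ clsL) : IsConj t x := by
  obtain ⟨d, -, hxd⟩ := List.mem_flatMap.mp hx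
  obtain ⟨i, -, rfl⟩ := List.mem_map.mp hxd
  rw [isConj_iff]
  refine ⟨y ^ i * gwX d.1, ?_⟩
  unfold rep
  group

theorem cls_eq : (↑clsL.toFinset : Set ↥P3) = {a | IsConj t a} := by
  have hsub : (↑clsL.toFinset : Set ↥P3) ⊆ {a | IsConj t a} := by
    intro x hx
    rw [Finset.mem_coe, List.mem_toFinset] at hx
    exact clsL_conj hx
  have hcard : {a : ↥P3 | IsConj t a}.ncard ≤ 170775 := by
    have h := ncard_isConj t
    rw [card_P3] at h
    have h2 := card_C_ge
    by_contra hlt
    push Not at hlt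
    have : 170776 * 2903040 ≤ {a : ↥P3 | IsConj t a}.ncard *
        Nat.card ↥(Subgroup.centralizer ({t} : Set ↥P3)) := Nat.mul_le_mul hlt h2
    rw [h] at this
    norm_num [NCo3] at this
  refine Set.eq_of_subset_of_ncard_le hsub ?_ (Set.toFinite _)
  rw [Set.ncard_coe_finset, List.toFinset_card_of_nodup clsL_nodup, clsL_length]
  exact hcard

theorem mem_clsL_of_conj {a : ↥P3} (ha : IsConj t a) : a ∈ clsL := by
  have hmem : a ∈ (↑clsL.toFinset : Set ↥P3) := by rw [cls_eq]; exact ha
  rwa [Finset.mem_coe, List.mem_toFinset] at hmem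

theorem card_C : Nat.card ↥(Subgroup.centralizer ({t} : Set ↥P3)) = 2903040 := by
  have h := ncard_isConj t
  rw [card_P3, ← cls_eq, Set.ncard_coe_finset, List.toFinset_card_of_nodup clsL_nodup, clsL_length] at h
  have : (170775 : ℕ) * Nat.card ↥(Subgroup.centralizer ({t} : Set ↥P3)) = 170775 * 2903040 := by
    rw [h]
  exact Nat.eq_of_mul_eq_mul_left (by norm_num) this

/-! ### the images of the generating pair under automorphisms -/

theorem rel_ty : Rel t (fun k => y ^ k) :=
  (relFail_false_iff [6] 0 _ (yl_zero ywOK)).mp relT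

/-- the element of order 11 commuting with `s` -/
def zz : ↥P3 := gwX [82]

theorem orderOf_zz : orderOf zz = 11 := by
  have : Fact (Nat.Prime 11) := ⟨by norm_num⟩
  apply orderOf_eq_prime
  · rw [zz, ← gwX_rpt]
    exact (sigEqX_iff _ _).mp z11
  · exact (sigEqX_eq_false_iff [82] []).mp neZ

theorem comm_s_zz : s * zz = zz * s := by
  have h := (sigEqX_iff _ _).mp commSZ
  have e1 : gwX [80, 82] = gwX [80] * gwX [82] := gwX_cons 80 [82]
  have e2 : gwX [82, 80] = gwX [82] * gwX [80] := gwX_cons 82 [80]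
  rw [e1, e2] at h
  exact h

theorem not_conj_s (β : MulAut ↥P3) : ¬ IsConj s (β t) := by
  intro h
  obtain ⟨c, hc⟩ := isConj_iff.mp h
  let w : ↥P3 := β.symm (c * zz * c⁻¹)
  have how : orderOf w = 11 := by
    show orderOf (β.symm (c * zz * c⁻¹)) = 11
    rw [MulEquiv.orderOf_eq, ← MulAut.conj_apply, MulEquiv.orderOf_eq]
    exact orderOf_zz
  have hcomm : w * t = t * w := by
    apply β.injective
    rw [map_mul, map_mul]
    show β (β.symm (c * zz * c⁻¹)) * β t = β t * β (β.symm (c * zz * c⁻¹))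
    rw [MulEquiv.apply_symm_apply, ← hc]
    have := comm_s_zz
    calc c * zz * c⁻¹ * (c * s * c⁻¹) = c * (zz * s) * c⁻¹ := by group
      _ = c * (s * zz) * c⁻¹ := by rw [this]
      _ = c * s * c⁻¹ * (c * zz * c⁻¹) := by group
  have hmem : w ∈ Subgroup.centralizer ({t} : Set ↥P3) := by
    rw [Subgroup.mem_centralizer_singleton_iff]
    exact hcomm
  have hdvd : orderOf (⟨w, hmem⟩ : ↥(Subgroup.centralizer ({t} : Set ↥P3))) ∣
      Nat.card ↥(Subgroup.centralizer ({t} : Set ↥P3)) := orderOf_dvd_natCard _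
  rw [card_C, Subgroup.orderOf_mk, how] at hdvd
  norm_num at hdvd

theorem aut_images (α : MulAut ↥P3) : ∃ h : ↥P3, α t = h * t * h⁻¹ ∧ α y = h * y * h⁻¹ := by
  have hαy : orderOf (α y) = 23 := by
    rw [MulEquiv.orderOf_eq]
    exact orderOf_y
  obtain ⟨g, hg⟩ := exists_conj_pow (α y) hαy
  let β : MulAut ↥P3 := MulAut.conj g * α
  have hβt : β t = g * α t * g⁻¹ := rfl
  have hβy : β y = g * α y * g⁻¹ := rfl
  have hrel : Rel (β t) (fun k => β (y ^ k)) := rel_ty.map β.toMonoidHom
  have hinv : orderOf (β t) = 2 := by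
    rw [MulEquiv.orderOf_eq]
    exact orderOf_t
  have hconj : IsConj t (β t) := by
    rcases invol_conj (β t) hinv with h | h
    · exact h
    · exact absurd h (not_conj_s β)
  have hmem := mem_clsL_of_conj hconj
  obtain ⟨d, hd, hxd⟩ := List.mem_flatMap.mp hmem
  obtain ⟨i, -, hi⟩ := List.mem_map.mp hxd
  -- conjugate back by the power of `y`
  let γ : ↥P3 →* ↥P3 := (MulAut.conj (y ^ i)⁻¹).toMonoidHom
  have hγt : γ (β t) = rep d := by
    show (y ^ i)⁻¹ * β t * ((y ^ i)⁻¹)⁻¹ = rep d
    rw [← hi]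
    group
  have hγy : ∀ z : ↥P3, (∃ k : ℤ, z = y ^ k) → γ z = z := by
    rintro z ⟨k, rfl⟩
    show (y ^ i)⁻¹ * y ^ k * ((y ^ i)⁻¹)⁻¹ = y ^ k
    rw [inv_inv, ← zpow_natCast, ← zpow_neg, ← zpow_add, ← zpow_add]
    congr 1
    ring
  have hrel2 : Rel (rep d) (fun k => γ (β (y ^ k))) := by
    have := hrel.map γ
    rw [hγt] at this
    exact this
  have hrep : rep d = gwX (conjWX 6 d.1) := by
    rw [gwX_conjWX]
    rfl
  rcases hg with hg | hg
  · have hβyk : ∀ k : ℕ, γ (β (y ^ k)) = y ^ k := by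
      intro k
      rw [map_pow, hβy, hg]
      exact hγy _ ⟨k, (zpow_natCast y k).symm⟩
    have hrel3 : Rel (rep d) (fun k => y ^ k) := by
      have e : (fun k => γ (β (y ^ k))) = fun k => y ^ k := funext hβyk
      rw [e] at hrel2
      exact hrel2
    rcases all_ra hd with hf | hemp
    · exfalso
      rw [hrep] at hrel3
      exact not_rel_of_fail (yl_zero ywOK) hf hrel3
    · have hrt : rep d = t := by
        unfold rep
        rw [hemp, gwX_nil, one_mul, inv_one, mul_one]
      refine ⟨g⁻¹ * y ^ i, ?_, ?_⟩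
      · have e : α t = g⁻¹ * (g * α t * g⁻¹) * g := by group
        rw [e, ← hβt, ← hi, hrt]
        group
      · have e : α y = g⁻¹ * (g * α y * g⁻¹) * g := by group
        rw [e, hg]
        have hc : y ^ i * y = y * y ^ i := pow_mul_comm' y i
        calc g⁻¹ * y * g = g⁻¹ * (y * y ^ i * (y ^ i)⁻¹) * g := by group
          _ = g⁻¹ * (y ^ i * y * (y ^ i)⁻¹) * g := by rw [hc]
          _ = g⁻¹ * y ^ i * y * (g⁻¹ * y ^ i)⁻¹ := by group
  · exfalso
    have hβyk : ∀ k : ℕ, γ (β (y ^ k)) = y⁻¹ ^ k := by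
      intro k
      rw [map_pow, hβy, hg]
      exact hγy _ ⟨-(k : ℤ), by rw [zpow_neg, zpow_natCast, inv_pow]⟩
    have hrel3 : Rel (rep d) (fun k => y⁻¹ ^ k) := by
      have e : (fun k => γ (β (y ^ k))) = fun k => y⁻¹ ^ k := funext hβyk
      rw [e] at hrel2
      exact hrel2
    rw [hrep] at hrel3
    exact not_rel_of_fail (yl_one ywOK y_pow) (all_rb hd) hrel3

/-! ### generation -/

theorem gwX_mem_of_letters (K : Subgroup ↥P3) : ∀ w : List ℕ, (∀ l ∈ w, gwX [l] ∈ K) → gwX w ∈ K
  | [], _ => K.one_mem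
  | l :: w, h => by
    rw [gwX_cons]
    exact K.mul_mem (h l List.mem_cons_self)
      (gwX_mem_of_letters K w (fun l' hl' => h l' (List.mem_cons_of_mem _ hl')))

theorem letter_mem {l : ℕ} (hl : (l == 6 || l == 7 || YL.contains l) = true) :
    gwX [l] ∈ Subgroup.closure ({t, y} : Set ↥P3) := by
  have ht : t ∈ Subgroup.closure ({t, y} : Set ↥P3) := Subgroup.subset_closure (by simp)
  have hy : y ∈ Subgroup.closure ({t, y} : Set ↥P3) := Subgroup.subset_closure (by simp)
  rw [Bool.or_eq_true, Bool.or_eq_true] at hl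
  rcases hl with (hl | hl) | hl
  · rw [beq_iff_eq] at hl
    rw [hl]
    exact ht
  · rw [beq_iff_eq] at hl
    rw [hl]
    have e : gwX [7] = t⁻¹ := by
      have : ([7] : List ℕ) = winvX [6] := rfl
      rw [this, gwX_winv]
      rfl
    rw [e]
    exact Subgroup.inv_mem _ ht
  · have hmem := List.contains_iff_mem.mp hl
    obtain ⟨k, hk, rfl⟩ := List.getElem_of_mem hmem
    have hk' : k < 23 := hk
    by_cases h0 : k = 0
    · subst h0
      exact hy
    · have := gwX_yw ywOK k hk'
      unfold yw at this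
      rw [if_neg h0, List.getD_eq_getElem _ _ hk] at this
      rw [this]
      exact Subgroup.pow_mem _ hy _

theorem gen_ty : Subgroup.closure ({t, y} : Set ↥P3) = ⊤ := by
  have hy : y ∈ Subgroup.closure ({t, y} : Set ↥P3) := Subgroup.subset_closure (by simp)
  have hA : gwX [0] ∈ Subgroup.closure ({t, y} : Set ↥P3) := by
    rw [(sigEqX_iff _ _).mp wordA_ok]
    apply gwX_mem_of_letters
    intro l hl
    exact letter_mem (List.all_eq_true.mp wordA_letters l hl)
  have hB : gwX [2] ∈ Subgroup.closure ({t, y} : Set ↥P3) := by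
    rw [(sigEqX_iff _ _).mp wordB_ok]
    apply gwX_mem_of_letters
    intro l hl
    exact letter_mem (List.all_eq_true.mp wordB_letters l hl)
  rw [eq_top_iff]
  have hle : P3 ≤ (Subgroup.closure ({t, y} : Set ↥P3)).map P3.subtype := by
    apply grp_le_iff.mpr
    intro c hc
    simp only [List.mem_cons, List.not_mem_nil, or_false] at hc
    rcases hc with rfl | rfl | rfl
    · exact ⟨gwX [0], hA, gwX_val_single 0⟩
    · exact ⟨gwX [2], hB, gwX_val_single 2⟩
    · exact ⟨y, hy, gwX_val_single 4⟩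
  intro g _
  obtain ⟨h, hh, hgh⟩ := hle g.2
  have : h = g := Subtype.ext hgh
  rw [← this]
  exact hh

/-- every automorphism of the group on 552 points is inner -/
theorem card_out_P3 : Nat.card (Cfsg.Out ↥P3) = 1 := by
  show (Cfsg.Inn ↥P3).index = 1
  rw [Subgroup.index_eq_one, eq_top_iff]
  intro α _
  obtain ⟨h, h1, h2⟩ := aut_images α
  refine ⟨h, ?_⟩
  exact mulAut_ext_of_closure t y gen_ty (MulAut.conj h) α
    (by rw [MulAut.conj_apply, h1]) (by rw [MulAut.conj_apply, h2])

/-- the Conway group `Co₃` of the definitions has no outer automorphisms -/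
theorem card_out_Co3 : Nat.card (Cfsg.Out ↥Cfsg.Spor.Co3) = 1 := by
  rw [card_out_congr co3Iso]
  exact card_out_P3

end

end Cfsg.Agent.Lib.Helper4.Co3
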