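import Cfsg.Agent.Lib.Helper4.Co3.OMiscData

set_option autoImplicit false

/-!
# Checks for the Sylow 2-subgroup of `Co₃`: the list of its elements (generated)
-/

namespace Cfsg.Agent.Lib.Helper4.Co3

open Cfsg.Agent.Lib.Helper10.SX
open Cfsg.Agent.Lib.Helper4.McL (incrFrom)

theorem oneS : wd SWs 0 = [] := by
  decide +kernel

set_option maxRecDepth 1000000 in
theorem lettersS : (allLt 1024 fun i => (wd SWs i).all fun l => SGS.contains l) = true := by
  decide +kernel

set_option maxRecDepth 1000000 in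
theorem distinctS : incrFrom 0 ((List.range 1024).map fun i => codeX (wd SWs i)) = true := by
  decide +kernel

set_option maxRecDepth 1000000 in
theorem tableS_0_0 : allRange 0 256 (fun i => Nat.blt (tb SMT 0 i) 1024 &&
    sigEqX (SGS.getD 0 0 :: wd SWs i) (wd SWs (tb SMT 0 i))) = true := by
  decide +kernel

set_option maxRecDepth 1000000 in
theorem tableS_0_1 : allRange 256 256 (fun i => Nat.blt (tb SMT 0 i) 1024 &&
    sigEqX (SGS.getD 0 0 :: wd SWs i) (wd SWs (tb SMT 0 i))) = true := by
  decide +kernel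

set_option maxRecDepth 1000000 in
theorem tableS_0_2 : allRange 512 256 (fun i => Nat.blt (tb SMT 0 i) 1024 &&
    sigEqX (SGS.getD 0 0 :: wd SWs i) (wd SWs (tb SMT 0 i))) = true := by
  decide +kernel

set_option maxRecDepth 1000000 in
theorem tableS_0_3 : allRange 768 256 (fun i => Nat.blt (tb SMT 0 i) 1024 &&
    sigEqX (SGS.getD 0 0 :: wd SWs i) (wd SWs (tb SMT 0 i))) = true := by
  decide +kernel

set_option maxRecDepth 1000000 in
theorem tableS_1_0 : allRange 0 256 (fun i => Nat.blt (tb SMT 1 i) 1024 &&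
    sigEqX (SGS.getD 1 0 :: wd SWs i) (wd SWs (tb SMT 1 i))) = true := by
  decide +kernel

set_option maxRecDepth 1000000 in
theorem tableS_1_1 : allRange 256 256 (fun i => Nat.blt (tb SMT 1 i) 1024 &&
    sigEqX (SGS.getD 1 0 :: wd SWs i) (wd SWs (tb SMT 1 i))) = true := by
  decide +kernel

set_option maxRecDepth 1000000 in
theorem tableS_1_2 : allRange 512 256 (fun i => Nat.blt (tb SMT 1 i) 1024 &&
    sigEqX (SGS.getD 1 0 :: wd SWs i) (wd SWs (tb SMT 1 i))) = true := by
  decide +kernel

set_option maxRecDepth 1000000 in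
theorem tableS_1_3 : allRange 768 256 (fun i => Nat.blt (tb SMT 1 i) 1024 &&
    sigEqX (SGS.getD 1 0 :: wd SWs i) (wd SWs (tb SMT 1 i))) = true := by
  decide +kernel

set_option maxRecDepth 1000000 in
theorem tableS_2_0 : allRange 0 256 (fun i => Nat.blt (tb SMT 2 i) 1024 &&
    sigEqX (SGS.getD 2 0 :: wd SWs i) (wd SWs (tb SMT 2 i))) = true := by
  decide +kernel

set_option maxRecDepth 1000000 in
theorem tableS_2_1 : allRange 256 256 (fun i => Nat.blt (tb SMT 2 i) 1024 &&
    sigEqX (SGS.getD 2 0 :: wd SWs i) (wd SWs (tb SMT 2 i))) = true := by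
  decide +kernel

set_option maxRecDepth 1000000 in
theorem tableS_2_2 : allRange 512 256 (fun i => Nat.blt (tb SMT 2 i) 1024 &&
    sigEqX (SGS.getD 2 0 :: wd SWs i) (wd SWs (tb SMT 2 i))) = true := by
  decide +kernel

set_option maxRecDepth 1000000 in
theorem tableS_2_3 : allRange 768 256 (fun i => Nat.blt (tb SMT 2 i) 1024 &&
    sigEqX (SGS.getD 2 0 :: wd SWs i) (wd SWs (tb SMT 2 i))) = true := by
  decide +kernel

set_option maxRecDepth 1000000 in
theorem tableS_3_0 : allRange 0 256 (fun i => Nat.blt (tb SMT 3 i) 1024 &&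
    sigEqX (SGS.getD 3 0 :: wd SWs i) (wd SWs (tb SMT 3 i))) = true := by
  decide +kernel

set_option maxRecDepth 1000000 in
theorem tableS_3_1 : allRange 256 256 (fun i => Nat.blt (tb SMT 3 i) 1024 &&
    sigEqX (SGS.getD 3 0 :: wd SWs i) (wd SWs (tb SMT 3 i))) = true := by
  decide +kernel

set_option maxRecDepth 1000000 in
theorem tableS_3_2 : allRange 512 256 (fun i => Nat.blt (tb SMT 3 i) 1024 &&
    sigEqX (SGS.getD 3 0 :: wd SWs i) (wd SWs (tb SMT 3 i))) = true := by
  decide +kernel

set_option maxRecDepth 1000000 in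
theorem tableS_3_3 : allRange 768 256 (fun i => Nat.blt (tb SMT 3 i) 1024 &&
    sigEqX (SGS.getD 3 0 :: wd SWs i) (wd SWs (tb SMT 3 i))) = true := by
  decide +kernel


end Cfsg.Agent.Lib.Helper4.Co3
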