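import Cfsg.Agent.Lib.Helper4.Co3.OMiscData

set_option autoImplicit false

/-!
# Checks for the Sylow 2-subgroup of `Co₃`: its involutions (generated)
-/

namespace Cfsg.Agent.Lib.Helper4.Co3

open Cfsg.Agent.Lib.Helper10.SX
open Cfsg.Agent.Lib.Helper4.McL (incrFrom)

set_option maxRecDepth 1000000 in
theorem involS_0 : allRange 0 256 (fun i => sigEqX (wd SWs i) [] || !(sigEqX (wd SWs i ++ wd SWs i) []) ||
    (((SSC.getD i (0, [])).1 == 6 || (SSC.getD i (0, [])).1 == 80) &&
      sigEqX (wd SWs i) (conjWX (SSC.getD i (0, [])).1 (SSC.getD i (0, [])).2))) = true := by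
  decide +kernel

set_option maxRecDepth 1000000 in
theorem involS_1 : allRange 256 256 (fun i => sigEqX (wd SWs i) [] || !(sigEqX (wd SWs i ++ wd SWs i) []) ||
    (((SSC.getD i (0, [])).1 == 6 || (SSC.getD i (0, [])).1 == 80) &&
      sigEqX (wd SWs i) (conjWX (SSC.getD i (0, [])).1 (SSC.getD i (0, [])).2))) = true := by
  decide +kernel

set_option maxRecDepth 1000000 in
theorem involS_2 : allRange 512 256 (fun i => sigEqX (wd SWs i) [] || !(sigEqX (wd SWs i ++ wd SWs i) []) ||
    (((SSC.getD i (0, [])).1 == 6 || (SSC.getD i (0, [])).1 == 80) &&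
      sigEqX (wd SWs i) (conjWX (SSC.getD i (0, [])).1 (SSC.getD i (0, [])).2))) = true := by
  decide +kernel

set_option maxRecDepth 1000000 in
theorem involS_3 : allRange 768 256 (fun i => sigEqX (wd SWs i) [] || !(sigEqX (wd SWs i ++ wd SWs i) []) ||
    (((SSC.getD i (0, [])).1 == 6 || (SSC.getD i (0, [])).1 == 80) &&
      sigEqX (wd SWs i) (conjWX (SSC.getD i (0, [])).1 (SSC.getD i (0, [])).2))) = true := by
  decide +kernel


end Cfsg.Agent.Lib.Helper4.Co3
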