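import Cfsg.Agent.Lib.Helper4.Co3.OMiscData

set_option autoImplicit false

/-!
# Small checks for the automorphisms of `Co₃` (generated)
-/

namespace Cfsg.Agent.Lib.Helper4.Co3

open Cfsg.Agent.Lib.Helper10.SX
open Cfsg.Agent.Lib.Helper4.McL (incrFrom)

theorem ywOK : ywB = true := by
  decide +kernel

theorem y23 : sigEqX (rpt 23 [4]) [] = true := by
  decide +kernel

theorem neY : sigEqX [4] [] = false := by
  decide +kernel

theorem sqT : sigEqX [6, 6] [] = true := by
  decide +kernel

theorem neT : sigEqX [6] [] = false := by
  decide +kernel

theorem normY : sigEqX [0, 4, 1] [4, 4] = true := by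
  decide +kernel

theorem relT : relFail [6] 0 = false := by
  decide +kernel

theorem commSZ : sigEqX [80, 82] [82, 80] = true := by
  decide +kernel

theorem z11 : sigEqX (rpt 11 [82]) [] = true := by
  decide +kernel

theorem neZ : sigEqX [82] [] = false := by
  decide +kernel

theorem wordA_ok : sigEqX [0] wordA = true := by
  decide +kernel

theorem wordB_ok : sigEqX [2] wordB = true := by
  decide +kernel

theorem wordA_letters : (wordA.all fun l => l == 6 || l == 7 || YL.contains l) = true := by
  decide +kernel

theorem wordB_letters : (wordB.all fun l => l == 6 || l == 7 || YL.contains l) = true := by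
  decide +kernel


end Cfsg.Agent.Lib.Helper4.Co3
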