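import Cfsg.Agent.Lib.Helper4.Co3.OMiscA
import Cfsg.Agent.Lib.Helper4.Co3.OMiscB
import Cfsg.Agent.Lib.Helper4.Co3.OMiscC
import Cfsg.Agent.Lib.Helper4.Co3.OMiscD

set_option autoImplicit false

/-!
# All the checks for the automorphisms of `Co₃` besides those of the conjugates of the involution (generated)
-/

namespace Cfsg.Agent.Lib.Helper4.Co3

open Cfsg.Agent.Lib.Helper10.SX
open Cfsg.Agent.Lib.Helper4.McL (incrFrom)

theorem tableS_0 : (allLt 1024 fun i => Nat.blt (tb SMT 0 i) 1024 &&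
    sigEqX (SGS.getD 0 0 :: wd SWs i) (wd SWs (tb SMT 0 i))) = true :=
  allLt_of_ranges (a := 256) (b := 512) (c := 768) tableS_0_0 tableS_0_1 tableS_0_2 tableS_0_3
    (by norm_num) (by norm_num) (by norm_num)

theorem tableS_1 : (allLt 1024 fun i => Nat.blt (tb SMT 1 i) 1024 &&
    sigEqX (SGS.getD 1 0 :: wd SWs i) (wd SWs (tb SMT 1 i))) = true :=
  allLt_of_ranges (a := 256) (b := 512) (c := 768) tableS_1_0 tableS_1_1 tableS_1_2 tableS_1_3
    (by norm_num) (by norm_num) (by norm_num)

theorem tableS_2 : (allLt 1024 fun i => Nat.blt (tb SMT 2 i) 1024 &&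
    sigEqX (SGS.getD 2 0 :: wd SWs i) (wd SWs (tb SMT 2 i))) = true :=
  allLt_of_ranges (a := 256) (b := 512) (c := 768) tableS_2_0 tableS_2_1 tableS_2_2 tableS_2_3
    (by norm_num) (by norm_num) (by norm_num)

theorem tableS_3 : (allLt 1024 fun i => Nat.blt (tb SMT 3 i) 1024 &&
    sigEqX (SGS.getD 3 0 :: wd SWs i) (wd SWs (tb SMT 3 i))) = true :=
  allLt_of_ranges (a := 256) (b := 512) (c := 768) tableS_3_0 tableS_3_1 tableS_3_2 tableS_3_3
    (by norm_num) (by norm_num) (by norm_num)

theorem tableS : closedB 1024 SWs SGS SMT = true := by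
  unfold closedB
  rw [allLt_iff]
  intro j hj
  have hj' : j < 4 := hj
  interval_cases j
  · exact tableS_0
  · exact tableS_1
  · exact tableS_2
  · exact tableS_3

theorem involS : involB2 1024 SWs SSC = true :=
  allLt_of_ranges (a := 256) (b := 512) (c := 768) involS_0 involS_1 involS_2 involS_3
    (by norm_num) (by norm_num) (by norm_num)

end Cfsg.Agent.Lib.Helper4.Co3
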