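import Cfsg.Agent.Lib.Helper4.Co3.OMiscData

set_option autoImplicit false

/-!
# Checks for the chain of words in the centraliser of the involution of `Co₃` (generated)
-/

namespace Cfsg.Agent.Lib.Helper4.Co3

open Cfsg.Agent.Lib.Helper10.SX
open Cfsg.Agent.Lib.Helper4.McL (incrFrom)

set_option maxRecDepth 1000000 in
theorem chainC : chainBX lvC = true := by
  decide +kernel

set_option maxRecDepth 1000000 in
theorem centC : centBX 6 lvC = true := by
  decide +kernel

set_option maxRecDepth 1000000 in
theorem prodC : (lvC.map fun q => q.2.length).prod = 2903040 := by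
  decide +kernel

end Cfsg.Agent.Lib.Helper4.Co3
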