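import Cfsg.Agent.Lib.Helper4.Co3.Ext
import Cfsg.Agent.Lib.Helper4.McL.OBasic

set_option autoImplicit false

/-!
# Tools for the automorphisms of the Conway group `Co₃` on 552 points

The involution `t = B⁵`, the element `y = C` of order 23 and its powers, the conjugates of `t`, a numerical invariant
of the orbits of `⟨y⟩` on the conjugates of `t`, the relations of the pair `(t, y)`, chains of words, subgroups given
by a list of words closed under multiplication by generators, and the conjugacy of involutions into a Sylow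
2-subgroup.
-/

namespace Cfsg.Agent.Lib.Helper4.Co3

open Cfsg
open Cfsg.Agent.Lib.Helper10.SX
open Cfsg.Agent.Lib.Helper4.McL (ChainOK chainSet chainSet_card eqL eq_of_eqL incrFrom incrAll incrFrom_lt
  nodup_of_incrFrom incrFrom_flatten)

attribute [local irreducible] perm

noncomputable section

/-! ### the two generators -/

/-- the involution -/
def t : ↥P3 := gwX [6]

/-- the generator of order 23 -/
def y : ↥P3 := gwX [4]

/-- the letters of the powers `y, y², …, y²²` (at the places `1, …, 22`) -/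
def YL : List ℕ := [4, 4, 8, 10, 12, 14, 16, 18, 20, 22, 24, 26, 27, 25, 23, 21, 19, 17, 15, 13, 11, 9, 5]

/-- the word of the power `y ^ i` for `i < 23` -/
def yw (i : ℕ) : List ℕ := if i = 0 then [] else [YL.getD i 4]

/-- the powers of `y` are the right letters -/
def ywB : Bool := allLt 23 fun i => sigEqX (yw i) (rpt i [4])

theorem gwX_yw (h : ywB = true) (i : ℕ) (hi : i < 23) : gwX (yw i) = y ^ i := by
  have h1 := (allLt_iff _ _).mp h i hi
  rw [(sigEqX_iff _ _).mp h1, gwX_rpt]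
  rfl

/-! ### conjugates -/

/-- the word of the conjugate of the letter `l` by a word -/
def conjWX (l : ℕ) (c : List ℕ) : List ℕ := c ++ (l :: winvX c)

theorem gwX_conjWX (l : ℕ) (c : List ℕ) : gwX (conjWX l c) = gwX c * gwX [l] * (gwX c)⁻¹ := by
  rw [conjWX, gwX_append, gwX_cons, gwX_winv, mul_assoc]

/-- the word of the conjugate by `y ^ i` of the conjugate of `t` by a word -/
def clsW (i : ℕ) (c : List ℕ) : List ℕ := yw i ++ (conjWX 6 c ++ winvX (yw i))

theorem gwX_clsW (h : ywB = true) (i : ℕ) (hi : i < 23) (c : List ℕ) :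
    gwX (clsW i c) = y ^ i * (gwX c * t * (gwX c)⁻¹) * (y ^ i)⁻¹ := by
  rw [clsW, gwX_append, gwX_append, gwX_winv, gwX_yw h i hi, gwX_conjWX, mul_assoc]
  rfl

/-! ### the invariant of the orbits -/

/-- a number computed from the images of five base points -/
def hh (g : ↥P3) : ℕ :=
  (((g • fpt 0).val * 1099511627776 + (g • fpt 1).val * 1073741824 + (g • fpt 2).val * 1048576 +
    (g • fpt 3).val * 1024 + (g • fpt 4).val) * 2654435761) % 2305843009213693951

/-- the same for a word -/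
def hhW (w : List ℕ) : ℕ :=
  ((evX w 0 * 1099511627776 + evX w 1 * 1073741824 + evX w 2 * 1048576 + evX w 3 * 1024 + evX w 4) *
    2654435761) % 2305843009213693951

theorem hhW_eq (w : List ℕ) : hhW w = hh (gwX w) := by
  unfold hhW hh
  rw [gwX_smul_val, gwX_smul_val, gwX_smul_val, gwX_smul_val, gwX_smul_val, fpt_val (by norm_num),
    fpt_val (by norm_num), fpt_val (by norm_num), fpt_val (by norm_num), fpt_val (by norm_num)]

/-- the least of these numbers on the conjugates by the powers of `y` -/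
def omin (g : ↥P3) : ℕ := sInf (Set.range fun i : ℕ => hh (y ^ i * g * (y ^ i)⁻¹))

theorem omin_conj (hy : y ^ 23 = 1) (g : ↥P3) (k : ℕ) : omin (y ^ k * g * (y ^ k)⁻¹) = omin g := by
  have hset : (Set.range fun i : ℕ => hh (y ^ i * (y ^ k * g * (y ^ k)⁻¹) * (y ^ i)⁻¹)) =
      Set.range fun i : ℕ => hh (y ^ i * g * (y ^ i)⁻¹) := by
    apply Set.eq_of_subset_of_subset
    · rintro m ⟨i, rfl⟩
      refine ⟨i + k, ?_⟩
      show hh (y ^ (i + k) * g * (y ^ (i + k))⁻¹) = hh (y ^ i * (y ^ k * g * (y ^ k)⁻¹) * (y ^ i)⁻¹)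
      have e : y ^ (i + k) * g * (y ^ (i + k))⁻¹ = y ^ i * (y ^ k * g * (y ^ k)⁻¹) * (y ^ i)⁻¹ := by
        rw [pow_add, mul_inv_rev]
        simp only [mul_assoc]
      rw [e]
    · rintro m ⟨i, rfl⟩
      refine ⟨i + 22 * k, ?_⟩
      show hh (y ^ (i + 22 * k) * (y ^ k * g * (y ^ k)⁻¹) * (y ^ (i + 22 * k))⁻¹) =
        hh (y ^ i * g * (y ^ i)⁻¹)
      have e : y ^ (i + 22 * k) * y ^ k = y ^ i := by
        rw [← pow_add]
        have : i + 22 * k + k = i + 23 * k := by ring
        rw [this, pow_add, pow_mul, hy, one_pow, mul_one]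
      have e2 : y ^ (i + 22 * k) * (y ^ k * g * (y ^ k)⁻¹) * (y ^ (i + 22 * k))⁻¹ =
          (y ^ (i + 22 * k) * y ^ k) * g * (y ^ (i + 22 * k) * y ^ k)⁻¹ := by
        rw [mul_inv_rev]
        simp only [mul_assoc]
      rw [e2, e]
  unfold omin
  rw [hset]

theorem pow_mod_23 (hy : y ^ 23 = 1) (i : ℕ) : y ^ i = y ^ (i % 23) := by
  conv_lhs => rw [← Nat.div_add_mod i 23, pow_add, pow_mul, hy, one_pow, one_mul]

theorem omin_eq (hy : y ^ 23 = 1) (g : ↥P3) (M i0 : ℕ) (h0 : hh (y ^ i0 * g * (y ^ i0)⁻¹) = M)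
    (hle : ∀ i < 23, M ≤ hh (y ^ i * g * (y ^ i)⁻¹)) : omin g = M := by
  unfold omin
  apply le_antisymm
  · exact Nat.sInf_le ⟨i0, h0⟩
  · apply le_csInf (Set.range_nonempty _)
    rintro _ ⟨i, rfl⟩
    show M ≤ hh (y ^ i * g * (y ^ i)⁻¹)
    rw [pow_mod_23 hy i]
    exact hle _ (Nat.mod_lt _ (by norm_num))

/-- the check of a conjugator `d.1` with the least number `d.2.1`, taken at the power `d.2.2`: also the conjugate
does not commute with `y` -/
def repOK (d : List ℕ × ℕ × ℕ) : Bool :=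
  Nat.blt d.2.2 23 && Nat.beq (hhW (clsW d.2.2 d.1)) d.2.1 &&
    (allLt 23 fun i => Nat.ble d.2.1 (hhW (clsW i d.1))) &&
    !(sigEqX (conjWX 6 d.1 ++ [4]) (4 :: conjWX 6 d.1))

theorem repOK_spec (hyw : ywB = true) (hy : y ^ 23 = 1) {d : List ℕ × ℕ × ℕ} (h : repOK d = true) :
    omin (gwX d.1 * t * (gwX d.1)⁻¹) = d.2.1 ∧
      (gwX d.1 * t * (gwX d.1)⁻¹) * y ≠ y * (gwX d.1 * t * (gwX d.1)⁻¹) := by
  unfold repOK at h
  rw [Bool.and_eq_true, Bool.and_eq_true, Bool.and_eq_true, Bool.not_eq_true', sigEqX_eq_false_iff] at h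
  obtain ⟨⟨⟨h0, h1⟩, h2⟩, h3⟩ := h
  have hlt : d.2.2 < 23 := by simpa [Nat.blt] using h0
  have hi0 : ∀ i < 23, hhW (clsW i d.1) = hh (y ^ i * (gwX d.1 * t * (gwX d.1)⁻¹) * (y ^ i)⁻¹) := by
    intro i hi
    rw [hhW_eq, gwX_clsW hyw _ hi]
  constructor
  · apply omin_eq hy _ d.2.1 d.2.2
    · rw [← hi0 _ hlt]
      exact Nat.eq_of_beq_eq_true h1
    · intro i hi
      rw [← hi0 i hi]
      exact Nat.le_of_ble_eq_true ((allLt_iff _ _).mp h2 i hi)
  · intro hc
    apply h3
    rw [gwX_append, gwX_cons 4 (conjWX 6 d.1), gwX_conjWX]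
    exact hc

/-! ### the relations -/

/-- the letter of `y ^ k` (for `s = 0`) or of `y ^ (-k)` (for `s ≠ 0`), for `0 < k < 23` -/
def yl (k s : ℕ) : ℕ := YL.getD (if s = 0 then k else 23 - k) 4

/-- the first relator -/
def rel1 (A : List ℕ) (s : ℕ) : List ℕ := rpt 11 (A ++ [yl 7 s])

/-- the second relator -/
def rel2 (A : List ℕ) (s : ℕ) : List ℕ := rpt 7 (A ++ (yl 1 s :: (A ++ (yl 7 s :: (A ++ [yl 8 s])))))

/-- the third relator -/
def rel3 (A : List ℕ) (s : ℕ) : List ℕ := rpt 14 (A ++ [yl 8 s])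

/-- the fourth relator -/
def rel4 (A : List ℕ) (s : ℕ) : List ℕ := rpt 7 (A ++ (yl 1 s :: (A ++ (yl 8 s :: (A ++ [yl 11 s])))))

/-- the fifth relator -/
def rel5 (A : List ℕ) (s : ℕ) : List ℕ := rpt 18 (A ++ [yl 5 s])

/-- some relation fails for the word `A` and the powers of `y` (for `s = 0`) or of its inverse -/
def relFail (A : List ℕ) (s : ℕ) : Bool :=
  !(sigEqX (rel1 A s) []) || !(sigEqX (rel2 A s) []) || !(sigEqX (rel3 A s) []) ||
    !(sigEqX (rel4 A s) []) || !(sigEqX (rel5 A s) [])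

/-- the relations of an element `a` and a family `p` of elements (the powers of a second element) -/
def Rel (a : ↥P3) (p : ℕ → ↥P3) : Prop :=
  (a * p 7) ^ 11 = 1 ∧ (a * (p 1 * (a * (p 7 * (a * p 8))))) ^ 7 = 1 ∧ (a * p 8) ^ 14 = 1 ∧
    (a * (p 1 * (a * (p 8 * (a * p 11))))) ^ 7 = 1 ∧ (a * p 5) ^ 18 = 1

theorem gwX_rel1 (A : List ℕ) (s : ℕ) : gwX (rel1 A s) = (gwX A * gwX [yl 7 s]) ^ 11 := by
  rw [rel1, gwX_rpt, gwX_append]

theorem gwX_rel2 (A : List ℕ) (s : ℕ) : gwX (rel2 A s) =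
    (gwX A * (gwX [yl 1 s] * (gwX A * (gwX [yl 7 s] * (gwX A * gwX [yl 8 s]))))) ^ 7 := by
  rw [rel2, gwX_rpt, gwX_append, gwX_cons (yl 1 s), gwX_append, gwX_cons (yl 7 s), gwX_append]

theorem gwX_rel3 (A : List ℕ) (s : ℕ) : gwX (rel3 A s) = (gwX A * gwX [yl 8 s]) ^ 14 := by
  rw [rel3, gwX_rpt, gwX_append]

theorem gwX_rel4 (A : List ℕ) (s : ℕ) : gwX (rel4 A s) =
    (gwX A * (gwX [yl 1 s] * (gwX A * (gwX [yl 8 s] * (gwX A * gwX [yl 11 s]))))) ^ 7 := by
  rw [rel4, gwX_rpt, gwX_append, gwX_cons (yl 1 s), gwX_append, gwX_cons (yl 8 s), gwX_append]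

theorem gwX_rel5 (A : List ℕ) (s : ℕ) : gwX (rel5 A s) = (gwX A * gwX [yl 5 s]) ^ 18 := by
  rw [rel5, gwX_rpt, gwX_append]

theorem relFail_false_iff (A : List ℕ) (s : ℕ) (p : ℕ → ↥P3)
    (hp : ∀ k, 0 < k → k < 23 → gwX [yl k s] = p k) : relFail A s = false ↔ Rel (gwX A) p := by
  unfold relFail Rel
  simp only [Bool.or_eq_false_iff, Bool.not_eq_false', sigEqX_iff, gwX_rel1, gwX_rel2, gwX_rel3,
    gwX_rel4, gwX_rel5, gwX_nil, hp 1 (by norm_num) (by norm_num), hp 5 (by norm_num) (by norm_num),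
    hp 7 (by norm_num) (by norm_num), hp 8 (by norm_num) (by norm_num),
    hp 11 (by norm_num) (by norm_num), and_assoc]

theorem not_rel_of_fail {A : List ℕ} {s : ℕ} {p : ℕ → ↥P3}
    (hp : ∀ k, 0 < k → k < 23 → gwX [yl k s] = p k) (h : relFail A s = true) : ¬ Rel (gwX A) p := by
  intro hr
  rw [← relFail_false_iff A s p hp, h] at hr
  exact absurd hr (by decide)

/-- the relations are preserved by homomorphisms -/
theorem Rel.map {a : ↥P3} {p : ℕ → ↥P3} (h : Rel a p) (f : ↥P3 →* ↥P3) : Rel (f a) (fun k => f (p k)) := by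
  obtain ⟨r1, r2, r3, r4, r5⟩ := h
  refine ⟨?_, ?_, ?_, ?_, ?_⟩
  · rw [← map_mul, ← map_pow, r1, map_one]
  · simp only [← map_mul]
    rw [← map_pow, r2, map_one]
  · rw [← map_mul, ← map_pow, r3, map_one]
  · simp only [← map_mul]
    rw [← map_pow, r4, map_one]
  · rw [← map_mul, ← map_pow, r5, map_one]

theorem yl_zero (hyw : ywB = true) (k : ℕ) (h0 : 0 < k) (hk : k < 23) : gwX [yl k 0] = y ^ k := by
  have h := gwX_yw hyw k hk
  unfold yw at h
  rw [if_neg (by omega)] at h
  exact h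

theorem yl_one (hyw : ywB = true) (hy : y ^ 23 = 1) (k : ℕ) (h0 : 0 < k) (hk : k < 23) :
    gwX [yl k 1] = y⁻¹ ^ k := by
  have h := gwX_yw hyw (23 - k) (by omega)
  unfold yw at h
  rw [if_neg (by omega)] at h
  have e : yl k 1 = YL.getD (23 - k) 4 := rfl
  rw [e, h, inv_pow, eq_inv_iff_mul_eq_one, ← pow_add]
  have : 23 - k + k = 23 := by omega
  rw [this, hy]

/-! ### chains of words -/

/-- the check of a chain of words -/
def chainBX : List (ℕ × List (List ℕ)) → Bool
  | [] => true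
  | q :: rest => decide (q.1 < 552) && noDup (q.2.map fun w => evX w q.1) 0 &&
      (rest.all fun r => r.2.all fun w => evX w q.1 == q.1) && chainBX rest

/-- a level of the chain in the group -/
def toLvlX (q : ℕ × List (List ℕ)) : Fin 552 × List ↥P3 := (fpt q.1, q.2.map gwX)

theorem chainBX_sound : ∀ lv : List (ℕ × List (List ℕ)), chainBX lv = true → ChainOK (lv.map toLvlX)
  | [], _ => trivial
  | q :: rest, h => by
    unfold chainBX at h
    simp only [Bool.and_eq_true, decide_eq_true_eq, List.all_eq_true, beq_iff_eq] at h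
    obtain ⟨⟨⟨hb, hnd⟩, hfix⟩, hrest⟩ := h
    refine ⟨?_, ?_, chainBX_sound rest hrest⟩
    · show (((q.2.map gwX).map fun g => g • fpt q.1)).Nodup
      apply List.Nodup.of_map Fin.val
      rw [List.map_map, List.map_map]
      have : ((Fin.val ∘ fun g : ↥P3 => g • fpt q.1) ∘ gwX) = fun w => evX w q.1 := by
        funext w
        show (gwX w • fpt q.1).val = _
        rw [gwX_smul_val, fpt_val hb]
      rw [this]
      exact (noDup_sound _ _ hnd).1
    · intro r hr g hg
      obtain ⟨r', hr', rfl⟩ := List.mem_map.mp hr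
      obtain ⟨w, hw, rfl⟩ := List.mem_map.mp hg
      apply Fin.ext
      show (gwX w • fpt q.1).val = _
      rw [gwX_smul_val, fpt_val hb]
      exact (hfix r' hr' w hw).trans (fpt_val hb).symm

theorem chainSet_subset {G α : Type*} [Group G] [MulAction G α] (S K : Subgroup G) (hSK : S ≤ K) :
    ∀ lv : List (α × List G), (∀ q ∈ lv, ∀ g ∈ q.2, g ∈ K) → chainSet S lv ⊆ (K : Set G)
  | [], _ => fun _ hx => hSK hx
  | p :: rest, h => by
    rintro x ⟨g, hg, m, hm, rfl⟩
    exact K.mul_mem (h p List.mem_cons_self g hg)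
      (chainSet_subset S K hSK rest (fun q hq => h q (List.mem_cons_of_mem _ hq)) hm)

/-- the words of the chain commute with the letter `l` -/
def centBX (l : ℕ) (lv : List (ℕ × List (List ℕ))) : Bool :=
  lv.all fun q => q.2.all fun w => sigEqX (w ++ [l]) (l :: w)

/-- a chain of words commuting with a letter bounds the order of its centraliser from below -/
theorem card_centralizer_ge (l : ℕ) (lv : List (ℕ × List (List ℕ))) (hch : chainBX lv = true)
    (hc : centBX l lv = true) :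
    (lv.map fun q => q.2.length).prod ≤ Nat.card ↥(Subgroup.centralizer ({gwX [l]} : Set ↥P3)) := by
  have h1 := chainSet_card (⊥ : Subgroup ↥P3) (lv.map toLvlX) (chainBX_sound lv hch)
    (fun q _ s hs => by rw [Subgroup.mem_bot.mp hs, one_smul])
  have h2 : ((lv.map toLvlX).map fun q => q.2.length) = lv.map fun q => q.2.length := by
    rw [List.map_map]
    apply List.map_congr_left
    intro q _
    show (q.2.map gwX).length = q.2.length
    rw [List.length_map]
  rw [h2, Subgroup.card_bot, mul_one] at h1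
  have hmem : ∀ q ∈ lv.map toLvlX, ∀ g ∈ q.2, g ∈ Subgroup.centralizer ({gwX [l]} : Set ↥P3) := by
    intro q hq g hg
    obtain ⟨q', hq', rfl⟩ := List.mem_map.mp hq
    obtain ⟨w, hw, rfl⟩ := List.mem_map.mp hg
    unfold centBX at hc
    rw [List.all_eq_true] at hc
    have h := hc q' hq'
    rw [List.all_eq_true] at h
    have h3 := (sigEqX_iff _ _).mp (h w hw)
    rw [gwX_append, gwX_cons l w] at h3
    rw [Subgroup.mem_centralizer_singleton_iff]
    exact h3
  have h3 := chainSet_subset (⊥ : Subgroup ↥P3) (Subgroup.centralizer ({gwX [l]} : Set ↥P3)) bot_le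
    (lv.map toLvlX) hmem
  calc (lv.map fun q => q.2.length).prod ≤ (chainSet (⊥ : Subgroup ↥P3) (lv.map toLvlX)).ncard := h1
    _ ≤ ((Subgroup.centralizer ({gwX [l]} : Set ↥P3) : Subgroup ↥P3) : Set ↥P3).ncard :=
        Set.ncard_le_ncard h3 (Set.toFinite _)
    _ = Nat.card ↥(Subgroup.centralizer ({gwX [l]} : Set ↥P3)) := (Nat.card_coe_set_eq _).symm

/-! ### subgroups given by a list of words closed under multiplication by generators -/

/-- the word with a given index -/
def wd (Ws : List (List ℕ)) (i : ℕ) : List ℕ := Ws.getD i []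

/-- the entry of a table -/
def tb (MT : List (List ℕ)) (j i : ℕ) : ℕ := (MT.getD j []).getD i 0

/-- the products of the generators with the words are the words given by the table -/
def closedB (m : ℕ) (Ws : List (List ℕ)) (GS : List ℕ) (MT : List (List ℕ)) : Bool :=
  allLt GS.length fun j => allLt m fun i =>
    Nat.blt (tb MT j i) m && sigEqX (GS.getD j 0 :: wd Ws i) (wd Ws (tb MT j i))

/-- a list of `m` words in the letters of `GS` for different elements, containing the empty word, closed under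
multiplication on the left by the letters of `GS` -/
structure ClosedList (m : ℕ) (Ws : List (List ℕ)) (GS : List ℕ) (MT : List (List ℕ)) : Prop where
  one : ∃ i, i < m ∧ wd Ws i = []
  letters : (allLt m fun i => (wd Ws i).all fun l => GS.contains l) = true
  table : closedB m Ws GS MT = true
  distinct : incrFrom 0 ((List.range m).map fun i => codeX (wd Ws i)) = true

namespace ClosedList

variable {m : ℕ} {Ws : List (List ℕ)} {GS : List ℕ} {MT : List (List ℕ)} (h : ClosedList m Ws GS MT)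

include h

theorem letter_mul {l : ℕ} (hl : l ∈ GS) {i : ℕ} (hi : i < m) :
    ∃ k, k < m ∧ gwX [l] * gwX (wd Ws i) = gwX (wd Ws k) := by
  obtain ⟨j, hj, rfl⟩ := List.getElem_of_mem hl
  have h1 := h.table
  unfold closedB at h1
  rw [allLt_iff] at h1
  have h2 := h1 j hj
  rw [allLt_iff] at h2
  have h3 := h2 i hi
  rw [Bool.and_eq_true] at h3
  refine ⟨tb MT j i, by simpa [Nat.blt] using h3.1, ?_⟩
  have h4 := (sigEqX_iff _ _).mp h3.2
  rw [gwX_cons] at h4
  rw [← h4, List.getD_eq_getElem _ _ hj]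

theorem word_mul : ∀ (w : List ℕ), (∀ l ∈ w, l ∈ GS) → ∀ i, i < m →
    ∃ k, k < m ∧ gwX w * gwX (wd Ws i) = gwX (wd Ws k)
  | [], _, i, hi => ⟨i, hi, by rw [gwX_nil, one_mul]⟩
  | l :: w, hw, i, hi => by
    obtain ⟨k, hk, e⟩ := word_mul w (fun l' hl' => hw l' (List.mem_cons_of_mem _ hl')) i hi
    obtain ⟨k', hk', e'⟩ := h.letter_mul (hw l List.mem_cons_self) hk
    exact ⟨k', hk', by rw [gwX_cons, mul_assoc, e, e']⟩

theorem wd_letters {i : ℕ} (hi : i < m) : ∀ l ∈ wd Ws i, l ∈ GS := by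
  intro l hl
  have h1 := (allLt_iff _ _).mp h.letters i hi
  rw [List.all_eq_true] at h1
  exact List.contains_iff_mem.mp (h1 l hl)

theorem mul_eq {i j : ℕ} (hi : i < m) (hj : j < m) :
    ∃ k, k < m ∧ gwX (wd Ws i) * gwX (wd Ws j) = gwX (wd Ws k) :=
  h.word_mul (wd Ws i) (h.wd_letters hi) j hj

theorem inj {i j : ℕ} (hi : i < m) (hj : j < m) (e : gwX (wd Ws i) = gwX (wd Ws j)) : i = j := by
  have hnd := nodup_of_incrFrom _ 0 h.distinct
  apply List.inj_on_of_nodup_map hnd (List.mem_range.mpr hi) (List.mem_range.mpr hj)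
  show codeX (wd Ws i) = codeX (wd Ws j)
  rw [codeX_eq, codeX_eq, e]

/-- the subgroup of the words -/
def subgroup : Subgroup ↥P3 where
  carrier := {g | ∃ i, i < m ∧ g = gwX (wd Ws i)}
  one_mem' := by
    obtain ⟨i, hi, e⟩ := h.one
    exact ⟨i, hi, by rw [e]; rfl⟩
  mul_mem' := by
    rintro _ _ ⟨i, hi, rfl⟩ ⟨j, hj, rfl⟩
    obtain ⟨k, hk, e⟩ := h.mul_eq hi hj
    exact ⟨k, hk, e⟩
  inv_mem' := by
    intro g hg
    have hpow : ∀ k : ℕ, g ^ (k + 1) ∈ {g : ↥P3 | ∃ i, i < m ∧ g = gwX (wd Ws i)} := by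
      intro k
      induction k with
      | zero => rw [zero_add, pow_one]; exact hg
      | succ k ih =>
        rw [pow_succ]
        obtain ⟨i, hi, e1⟩ := ih
        obtain ⟨j, hj, e2⟩ := hg
        obtain ⟨k', hk', e⟩ := h.mul_eq hi hj
        exact ⟨k', hk', by rw [e1, e2, e]⟩
    have ho : 0 < orderOf g := orderOf_pos g
    have : g⁻¹ = g ^ (orderOf g - 1 + 1 + (orderOf g - 1)) := by
      rw [inv_eq_iff_mul_eq_one, ← pow_succ']
      have : orderOf g - 1 + 1 + (orderOf g - 1) + 1 = orderOf g * 2 := by omega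
      rw [this, pow_mul, pow_orderOf_eq_one, one_pow]
    rw [this]
    have := hpow (orderOf g - 1 + (orderOf g - 1))
    have e : orderOf g - 1 + (orderOf g - 1) + 1 = orderOf g - 1 + 1 + (orderOf g - 1) := by omega
    rwa [e] at this

theorem mem_subgroup (g : ↥P3) : g ∈ h.subgroup ↔ ∃ i, i < m ∧ g = gwX (wd Ws i) := Iff.rfl

theorem gwX_mem {i : ℕ} (hi : i < m) : gwX (wd Ws i) ∈ h.subgroup := ⟨i, hi, rfl⟩

theorem card_subgroup : Nat.card ↥h.subgroup = m := by
  let e : Fin m → ↥h.subgroup := fun i => ⟨gwX (wd Ws i.val), h.gwX_mem i.isLt⟩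
  have hb : Function.Bijective e := by
    constructor
    · intro i j he
      exact Fin.ext (h.inj i.isLt j.isLt (congrArg Subtype.val he))
    · rintro ⟨g, i, hi, rfl⟩
      exact ⟨⟨i, hi⟩, rfl⟩
  rw [← Nat.card_congr (Equiv.ofBijective e hb), Nat.card_eq_fintype_card, Fintype.card_fin]

end ClosedList

/-- the check that the elements of order two in the list are conjugates of the letters given in `SC` by the words
given there -/
def involB (m : ℕ) (Ws : List (List ℕ)) (SC : List (ℕ × List ℕ)) : Bool :=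
  allLt m fun i => sigEqX (wd Ws i) [] || !(sigEqX (wd Ws i ++ wd Ws i) []) ||
    sigEqX (wd Ws i) (conjWX (SC.getD i (0, [])).1 (SC.getD i (0, [])).2)

end

/-! ### conjugating involutions into a Sylow 2-subgroup -/

/-- an involution is conjugate into a given subgroup of order `2 ^ k`, when `2 ^ k` is the full power of two in the
order of the group -/
theorem exists_conj_mem_of_sylow {J : Type*} [Group J] [Finite J] (m k : ℕ) (hm : Odd m)
    (hJ : Nat.card J = 2 ^ k * m) (S : Subgroup J) (hS : Nat.card S = 2 ^ k) (x : J)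
    (hx : orderOf x = 2) : ∃ g : J, g * x * g⁻¹ ∈ S := by
  have : Fact (Nat.Prime 2) := ⟨Nat.prime_two⟩
  have hSp : IsPGroup 2 S := IsPGroup.of_card hS
  obtain ⟨P', hP'⟩ := hSp.exists_le_sylow
  have hP'card : Nat.card P' = 2 ^ k := by
    obtain ⟨n, hn⟩ := IsPGroup.iff_card.mp P'.isPGroup'
    have hdvd : 2 ^ n ∣ 2 ^ k * m := by
      rw [← hn, ← hJ]
      exact Subgroup.card_subgroup_dvd_card _
    have hcop : Nat.Coprime (2 ^ n) m := Nat.Coprime.pow_left n (Nat.coprime_two_left.mpr hm)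
    have h1 : 2 ^ n ∣ 2 ^ k := hcop.dvd_of_dvd_mul_right hdvd
    have h2 : 2 ^ k ≤ 2 ^ n := by
      rw [← hn, ← hS]
      exact Subgroup.card_le_of_le hP'
    exact hn.trans (Nat.le_antisymm (Nat.le_of_dvd (by positivity) h1) h2)
  have hSP : S = ↑P' := Subgroup.eq_of_le_of_card_ge hP' (by rw [hS, hP'card])
  have hxp : IsPGroup 2 (Subgroup.zpowers x) :=
    IsPGroup.of_card (n := 1) (by rw [Nat.card_zpowers, hx, pow_one])
  obtain ⟨Q, hQ⟩ := hxp.exists_le_sylow
  obtain ⟨g, hg⟩ := MulAction.exists_smul_eq J Q P'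
  have hxQ : x ∈ (Q : Subgroup J) := hQ (Subgroup.mem_zpowers x)
  refine ⟨g, ?_⟩
  rw [hSP, ← hg, Sylow.coe_subgroup_smul]
  exact ⟨x, hxQ, rfl⟩

end Cfsg.Agent.Lib.Helper4.Co3
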