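import Cfsg.Agent.Lib.Helper4.Co3.Gens
import Cfsg.Agent.Lib.Helper4.McL.Points
import Cfsg.Agent.S0403

set_option autoImplicit false

/-!
# The 552 points of the Conway group `Co₃` of the definitions

The set `X3` of the 552 lattice vectors `x` with `x·x = 32`, `x·(-5,-1^23) = -24`, listed explicitly.
-/

namespace Cfsg.Agent.Lib.Helper4.Co3

open Cfsg
open Cfsg.Agent.Lib.Helper3.Golay
open Cfsg.Agent.Lib.Helper14.LeechXi
open Cfsg.Agent.Lib.Helper14.LeechMono
open Cfsg.Agent.Lib.Helper10.SX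
open Cfsg.Agent.Lib.Helper4.McL (vecOf lV lU sqL dotL vecV_eq vecU_eq sqNorm_vecOf dotInt_vecOf eq_of_vecOf_eq
  dotInt_neg_left)

/-- the order of the group -/
abbrev NCo3 : ℕ := 495766656000

/-- the `i`-th vector, as a list -/
def P552 (i : ℕ) : List ℤ := List.map (fun a : ℕ => (a : ℤ) - 8) (pts3N.getD i [])

/-- the conditions on a vector of the list -/
def okPt3 (l : List ℤ) : Bool :=
  l.length == 24 && chk (vecOf l) && sqL l == 32 && dotL lV l == -24

set_option maxRecDepth 100000 in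
theorem okPts3 : ∀ i < 552, okPt3 (P552 i) = true := by decide +kernel

/-- equality of lists of numbers -/
def eqLN : List ℕ → List ℕ → Bool
  | [], [] => true
  | a :: l, b :: l' => Nat.beq a b && eqLN l l'
  | _, _ => false

theorem eqLN_refl : ∀ l : List ℕ, eqLN l l = true
  | [] => rfl
  | a :: l => by rw [eqLN, Nat.beq_refl, eqLN_refl l]; rfl

set_option maxRecDepth 100000 in
theorem pts3N_neB : (allLt 552 fun i => allLt i fun j =>
    !(eqLN (pts3N.getD i []) (pts3N.getD j []))) = true := by decide +kernel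

theorem pts3N_ne : ∀ i < 552, ∀ j < i, pts3N.getD i [] ≠ pts3N.getD j [] := by
  intro i hi j hj h
  have h1 := pts3N_neB
  rw [allLt_iff] at h1
  have h2 := h1 i hi
  rw [allLt_iff] at h2
  have h3 := h2 j hj
  rw [h, eqLN_refl] at h3
  exact absurd h3 (by decide)

/-- the set of the 552 vectors -/
def X3 : Set ↥leechLattice :=
  {x | sqNorm (x : GolayPt → ℤ) = 32 ∧ dotInt Spor.vecV (x : GolayPt → ℤ) = -24}

theorem u0_eq : Cfsg.Agent.S1578.u0 = -Spor.vecV := by
  funext p
  revert p
  decide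

theorem card_X3 : Nat.card ↥X3 = 552 := by
  rw [← Cfsg.Agent.S0403.card_S]
  apply Nat.card_congr
  apply Equiv.subtypeEquivRight
  intro x
  show (_ ∧ _) ↔ (_ ∧ _)
  rw [u0_eq, dotInt_neg_left]
  constructor
  · rintro ⟨h1, h2⟩
    exact ⟨h1, by omega⟩
  · rintro ⟨h1, h2⟩
    exact ⟨h1, by omega⟩

instance finite_X3 : Finite ↥X3 := Nat.finite_of_card_ne_zero (by rw [card_X3]; norm_num)

theorem okPt3_spec {l : List ℤ} (h : okPt3 l = true) :
    l.length = 24 ∧ vecOf l ∈ leechLattice ∧ sqNorm (vecOf l) = 32 ∧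
      dotInt Spor.vecV (vecOf l) = -24 := by
  unfold okPt3 at h
  simp only [Bool.and_eq_true, beq_iff_eq] at h
  obtain ⟨⟨⟨h1, h2⟩, h3⟩, h4⟩ := h
  refine ⟨h1, chk_sound _ h2, ?_, ?_⟩
  · rw [sqNorm_vecOf]; exact h3
  · rw [vecV_eq, dotInt_vecOf]; exact h4

/-- the `i`-th point -/
def pt552 (i : Fin 552) : ↥X3 :=
  ⟨⟨vecOf (P552 i.val), (okPt3_spec (okPts3 i.val i.isLt)).2.1⟩,
    (okPt3_spec (okPts3 i.val i.isLt)).2.2⟩

theorem pt552_val (i : Fin 552) : ((pt552 i : ↥leechLattice) : GolayPt → ℤ) = vecOf (P552 i.val) := rfl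

theorem pt552_injective : Function.Injective pt552 := by
  intro i j h
  have h1 : vecOf (P552 i.val) = vecOf (P552 j.val) := by
    rw [← pt552_val, ← pt552_val, h]
  have h2 := eq_of_vecOf_eq (okPt3_spec (okPts3 i.val i.isLt)).1 (okPt3_spec (okPts3 j.val j.isLt)).1 h1
  unfold P552 at h2
  have hinj : Function.Injective (fun a : ℕ => (a : ℤ) - 8) := by
    intro a b hab
    simp only [sub_left_inj, Nat.cast_inj] at hab
    exact hab
  have h3 := List.map_injective_iff.mpr hinj h2
  rcases Nat.lt_trichotomy i.val j.val with hlt | heq | hgt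
  · exact absurd h3.symm (pts3N_ne j.val j.isLt i.val hlt)
  · exact Fin.ext heq
  · exact absurd h3 (pts3N_ne i.val i.isLt j.val hgt)

theorem pt552_bijective : Function.Bijective pt552 :=
  pt552_injective.bijective_of_nat_card_le (by rw [card_X3, Nat.card_eq_fintype_card, Fintype.card_fin])

/-- the enumeration of the 552 points -/
noncomputable def e552 : Fin 552 ≃ ↥X3 := Equiv.ofBijective pt552 pt552_bijective

theorem e552_apply (i : Fin 552) : e552 i = pt552 i := rfl

end Cfsg.Agent.Lib.Helper4.Co3
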