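import Cfsg.Agent.Lib.Helper4.Co3.Action
import Cfsg.Agent.Lib.Helper4.McL.Chain
import Cfsg.Agent.Lib.Helper10.SXRigid

set_option autoImplicit false

/-!
# The Conway group `Co₃` on 552 points: words, order, rigidity

`P3` is the group generated by the three packed permutations `cA3`, `cB3`, `cC3` of the 552 points.  A chain of
partial transversals shows `495766656000 ≤ |P3|`; since `P3` lies in the image of the group of the definitions
(of order `495766656000` by helper14), the group of the definitions is isomorphic to `P3`, and an element of `P3`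
is determined by the images of the six base points `0, 1, 2, 3, 4, 5`.
-/

namespace Cfsg.Agent.Lib.Helper4.Co3

open Cfsg
open Cfsg.Agent.Lib.Helper10.SX
open Cfsg.Agent.Lib.Helper4.McL (ChainOK chain_card_le lvW1 lvW2 lvW3 lvW4 lvW5)

noncomputable section

/-- the group on 552 points -/
def P3 : Subgroup (Equiv.Perm (Fin 552)) := grp 552 [cA3, cB3, cC3]

/-- the six letters: `A`, its inverse, `B`, its inverse, `C`, its inverse -/
def ltr (k : ℕ) : ℕ := [cA3, cAi3, cB3, cBi3, cC3, cCi3].getD k cA3

/-- the inverse letter -/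
def invl : ℕ → ℕ
  | 0 => 1
  | 1 => 0
  | 2 => 3
  | 3 => 2
  | 4 => 5
  | 5 => 4
  | _ => 1

theorem mem_A : cA3 ∈ [cA3, cB3, cC3] := List.mem_cons_self

theorem mem_B : cB3 ∈ [cA3, cB3, cC3] := List.mem_cons_of_mem _ List.mem_cons_self

theorem mem_C : cC3 ∈ [cA3, cB3, cC3] := List.mem_cons_of_mem _ (List.mem_cons_of_mem _ List.mem_cons_self)

theorem ltr_ok : ∀ k : ℕ, Valid 552 (ltr k) ∧ perm 552 (ltr k) ∈ P3 ∧
    perm 552 (ltr (invl k)) = (perm 552 (ltr k))⁻¹
  | 0 => ⟨valid_A3, perm_mem_grp mem_A, perm_Ai3⟩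
  | 1 => ⟨valid_Ai3, by
      show perm 552 cAi3 ∈ P3
      rw [perm_Ai3]; exact P3.inv_mem (perm_mem_grp mem_A), by
      show perm 552 cA3 = (perm 552 cAi3)⁻¹
      rw [perm_Ai3, inv_inv]⟩
  | 2 => ⟨valid_B3, perm_mem_grp mem_B, perm_Bi3⟩
  | 3 => ⟨valid_Bi3, by
      show perm 552 cBi3 ∈ P3
      rw [perm_Bi3]; exact P3.inv_mem (perm_mem_grp mem_B), by
      show perm 552 cB3 = (perm 552 cBi3)⁻¹
      rw [perm_Bi3, inv_inv]⟩
  | 4 => ⟨valid_C3, perm_mem_grp mem_C, perm_Ci3⟩
  | 5 => ⟨valid_Ci3, by
      show perm 552 cCi3 ∈ P3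
      rw [perm_Ci3]; exact P3.inv_mem (perm_mem_grp mem_C), by
      show perm 552 cC3 = (perm 552 cCi3)⁻¹
      rw [perm_Ci3, inv_inv]⟩
  | (_ + 6) => ⟨valid_A3, perm_mem_grp mem_A, perm_Ai3⟩

/-- the codes of the letters of a word -/
def codesW (w : List ℕ) : List ℕ := w.map ltr

/-- the permutation of a word (the head of the word is applied last) -/
def pw (w : List ℕ) : Equiv.Perm (Fin 552) := prodL 552 (codesW w)

/-- the image of a point under a word -/
def evW (w : List ℕ) (x : ℕ) : ℕ := evalL 552 (codesW w) x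

/-- the inverse word -/
def winv (w : List ℕ) : List ℕ := (w.map invl).reverse

theorem codesW_valid (w : List ℕ) : ∀ c ∈ codesW w, Valid 552 c := by
  intro c hc
  obtain ⟨k, -, rfl⟩ := List.mem_map.mp hc
  exact (ltr_ok k).1

theorem pw_mem (w : List ℕ) : pw w ∈ P3 := by
  apply prodL_mem
  intro c hc
  obtain ⟨k, -, rfl⟩ := List.mem_map.mp hc
  exact (ltr_ok k).2.1

theorem pw_nil : pw [] = 1 := rfl

theorem pw_append (w w' : List ℕ) : pw (w ++ w') = pw w * pw w' := by
  unfold pw codesW
  rw [List.map_append, prodL_append]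

theorem pw_cons (k : ℕ) (w : List ℕ) : pw (k :: w) = perm 552 (ltr k) * pw w := by
  unfold pw codesW
  rw [List.map_cons, prodL_cons]

theorem pw_winv (w : List ℕ) : pw (winv w) = (pw w)⁻¹ := by
  induction w with
  | nil => exact inv_one.symm
  | cons k w ih =>
    have : winv (k :: w) = winv w ++ [invl k] := by
      unfold winv
      rw [List.map_cons, List.reverse_cons]
    rw [this, pw_append, ih, pw_cons, pw_cons, pw_nil, mul_one, (ltr_ok k).2.2, mul_inv_rev]

theorem pw_apply_val (w : List ℕ) (i : Fin 552) : (pw w i).val = evW w i.val :=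
  prodL_apply_val _ (codesW_valid w) i

/-- the element of the group of a word -/
def gw (w : List ℕ) : ↥P3 := ⟨pw w, pw_mem w⟩

theorem gw_nil : gw [] = 1 := rfl

theorem gw_append (w w' : List ℕ) : gw (w ++ w') = gw w * gw w' :=
  Subtype.ext (pw_append w w')

theorem gw_winv (w : List ℕ) : gw (winv w) = (gw w)⁻¹ :=
  Subtype.ext (pw_winv w)

theorem gw_smul_val (w : List ℕ) (i : Fin 552) : (gw w • i).val = evW w i.val :=
  pw_apply_val w i

/-- a point from a number -/
def fpt (b : ℕ) : Fin 552 := ⟨b % 552, Nat.mod_lt _ (by norm_num)⟩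

theorem fpt_val {b : ℕ} (hb : b < 552) : (fpt b).val = b := Nat.mod_eq_of_lt hb

/-! ### the chain -/

/-- the levels of the chain: base points and words -/
def lvls : List (ℕ × List (List ℕ)) :=
  [(0, lvX1), (1, lvW1), (2, lvW2), (3, lvW3), (4, lvW4), (5, lvW5)]

/-- the check of a chain of words -/
def chainB : List (ℕ × List (List ℕ)) → Bool
  | [] => true
  | q :: rest => decide (q.1 < 552) && noDup (q.2.map fun w => evW w q.1) 0 &&
      (rest.all fun r => r.2.all fun w => evW w q.1 == q.1) && chainB rest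

/-- a level of the chain in the group -/
def toLvl (q : ℕ × List (List ℕ)) : Fin 552 × List ↥P3 := (fpt q.1, q.2.map gw)

theorem chainB_sound : ∀ lv : List (ℕ × List (List ℕ)), chainB lv = true → ChainOK (lv.map toLvl)
  | [], _ => trivial
  | q :: rest, h => by
    unfold chainB at h
    simp only [Bool.and_eq_true, decide_eq_true_eq, List.all_eq_true, beq_iff_eq] at h
    obtain ⟨⟨⟨hb, hnd⟩, hfix⟩, hrest⟩ := h
    refine ⟨?_, ?_, chainB_sound rest hrest⟩
    · show (((q.2.map gw).map fun g => g • fpt q.1)).Nodup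
      apply List.Nodup.of_map Fin.val
      rw [List.map_map, List.map_map]
      have : ((Fin.val ∘ fun g : ↥P3 => g • fpt q.1) ∘ gw) = fun w => evW w q.1 := by
        funext w
        show (gw w • fpt q.1).val = _
        rw [gw_smul_val, fpt_val hb]
      rw [this]
      exact (noDup_sound _ _ hnd).1
    · intro r hr g hg
      obtain ⟨r', hr', rfl⟩ := List.mem_map.mp hr
      obtain ⟨w, hw, rfl⟩ := List.mem_map.mp hg
      apply Fin.ext
      show (gw w • fpt q.1).val = _
      rw [gw_smul_val, fpt_val hb]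
      exact (hfix r' hr' w hw).trans (fpt_val hb).symm

set_option maxRecDepth 1000000 in
theorem chain_ok : chainB lvls = true := by decide +kernel

set_option maxRecDepth 100000 in
theorem chain_prod : ((lvls.map toLvl).map fun q => q.2.length).prod = NCo3 := by
  have : ((lvls.map toLvl).map fun q => q.2.length) = lvls.map fun q => q.2.length := by
    rw [List.map_map]
    apply List.map_congr_left
    intro q _
    show (q.2.map gw).length = q.2.length
    rw [List.length_map]
  rw [this]
  decide +kernel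

/-- the pointwise stabiliser of the base -/
def Sbase : Subgroup ↥P3 where
  carrier := {g | ∀ b < 6, g • fpt b = fpt b}
  one_mem' := fun b _ => one_smul _ _
  mul_mem' := by
    intro g h hg hh b hb
    rw [mul_smul, hh b hb, hg b hb]
  inv_mem' := by
    intro g hg b hb
    rw [inv_smul_eq_iff, hg b hb]

theorem Sbase_fix : ∀ q ∈ lvls.map toLvl, ∀ s ∈ Sbase, s • q.1 = q.1 := by
  intro q hq s hs
  obtain ⟨q', hq', rfl⟩ := List.mem_map.mp hq
  have : q'.1 < 6 := by
    unfold lvls at hq'
    simp only [List.mem_cons, List.not_mem_nil, or_false] at hq'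
    rcases hq' with rfl | rfl | rfl | rfl | rfl | rfl <;> norm_num
  exact hs q'.1 this

end

end Cfsg.Agent.Lib.Helper4.Co3
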